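import Cfsg.Agent.H614.Weight
import Cfsg.Agent.H614.Chars
set_option linter.all false

-- part: H615/AltRefl
section
/-!
# Reflection of beta-numbers and the sign character

For `β : Fin m → ℕ` and `β' : Fin m' → ℕ` with entries below `N = m + m'` such that
`b ∈ range β ↔ N - 1 - b ∉ range β'` (for `b < N`), `F ν β = (-1) ^ #ν * c * F ν β'` with a constant `c`
(`F_refl`): the beta-numbers of the conjugate partition.
-/

set_option autoImplicit false
set_option linter.unusedSectionVars false

namespace Cfsg.Agent.H615.AltRefl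

open Finset Cfsg.Agent.H614

variable {m m' : ℕ}

/-! ### Block permutations -/

/-- The permutation acting as `σ` on the first `m` and as `τ` on the last `m'` indices. -/
def ext (σ : Equiv.Perm (Fin m)) (τ : Equiv.Perm (Fin m')) : Equiv.Perm (Fin (m + m')) :=
  finSumFinEquiv.permCongr (Equiv.Perm.sumCongr σ τ)

theorem ext_castAdd (σ : Equiv.Perm (Fin m)) (τ : Equiv.Perm (Fin m')) (i : Fin m) :
    ext σ τ (Fin.castAdd m' i) = Fin.castAdd m' (σ i) := by
  simp [ext, Equiv.permCongr_apply]

theorem ext_natAdd (σ : Equiv.Perm (Fin m)) (τ : Equiv.Perm (Fin m')) (i : Fin m') :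
    ext σ τ (Fin.natAdd m i) = Fin.natAdd m (τ i) := by
  simp [ext, Equiv.permCongr_apply]

theorem sg_ext (σ : Equiv.Perm (Fin m)) (τ : Equiv.Perm (Fin m')) :
    sg (ext σ τ) = sg σ * sg τ := by
  simp [sg, ext, Equiv.Perm.sign_permCongr, Equiv.Perm.sign_sumCongr]

theorem append_comp (β : Fin m → ℕ) (γ : Fin m' → ℕ) (σ : Equiv.Perm (Fin m))
    (τ : Equiv.Perm (Fin m')) : Fin.append (β ∘ σ) (γ ∘ τ) = Fin.append β γ ∘ ext σ τ := by
  funext i
  refine Fin.addCases (fun i => ?_) (fun i => ?_) i
  · rw [Function.comp_apply, ext_castAdd, Fin.append_left, Fin.append_left]; rfl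
  · rw [Function.comp_apply, ext_natAdd, Fin.append_right, Fin.append_right]; rfl

/-- The joint vacuum. -/
def J (β : Fin m → ℕ) (γ : Fin m' → ℕ) : ℤ := vac (Fin.append β γ)

theorem J_comp (β : Fin m → ℕ) (γ : Fin m' → ℕ) (σ : Equiv.Perm (Fin m))
    (τ : Equiv.Perm (Fin m')) : J (β ∘ σ) (γ ∘ τ) = sg σ * sg τ * J β γ := by
  unfold J
  rw [append_comp, vac_alt, sg_ext, smul_eq_mul]

theorem J_comp_left (β : Fin m → ℕ) (γ : Fin m' → ℕ) (σ : Equiv.Perm (Fin m)) :
    J (β ∘ σ) γ = sg σ * J β γ := by
  have h := J_comp β γ σ 1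
  simpa [sg] using h

theorem J_comp_right (β : Fin m → ℕ) (γ : Fin m' → ℕ) (τ : Equiv.Perm (Fin m')) :
    J β (γ ∘ τ) = sg τ * J β γ := by
  have h := J_comp β γ 1 τ
  simpa [sg] using h

theorem exists_perm_of_lt {N : ℕ} {δ : Fin N → ℕ} (h : Function.Injective δ)
    (hlt : ∀ i, δ i < N) : ∃ σ : Equiv.Perm (Fin N), δ = fun i => ((σ i : Fin N) : ℕ) := by
  have hinj : Function.Injective (fun i => (⟨δ i, hlt i⟩ : Fin N)) := by
    intro i j hij
    exact h (Fin.mk.inj_iff.mp hij)
  refine ⟨Equiv.ofBijective _ (Finite.injective_iff_bijective.mp hinj), ?_⟩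
  funext i
  simp

theorem FM_singleton_eq_zero {N : ℕ} {δ : Fin N → ℕ} (hlt : ∀ i, δ i < N) {r : ℕ} (hr : 0 < r) :
    FM (r ::ₘ 0) δ = 0 := by
  by_cases h : Function.Injective δ
  · obtain ⟨σ, rfl⟩ := exists_perm_of_lt h hlt
    apply FM_eq_zero_of_sum
    rw [Equiv.sum_comp σ (fun i : Fin N => (i : ℕ))]
    simp only [Multiset.cons_zero, Multiset.sum_singleton]
    omega
  · exact (FM_alt _).eq_zero_of_not_injective two_torsion_int h

theorem dn_append_left (β : Fin m → ℕ) (γ : Fin m' → ℕ) (j : Fin m) (r : ℕ) :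
    dn (Fin.append β γ) (Fin.castAdd m' j) r = Fin.append (dn β j r) γ := by
  funext i
  refine Fin.addCases (fun i => ?_) (fun i => ?_) i
  · rw [Fin.append_left]
    by_cases h : i = j
    · subst h; rw [dn_self, dn_self, Fin.append_left]
    · rw [dn_ne _ _ h, dn_ne, Fin.append_left]
      exact fun h' => h (Fin.castAdd_injective _ _ h')
  · rw [Fin.append_right, dn_ne, Fin.append_right]
    intro h'
    have := congrArg Fin.val h'
    simp only [Fin.val_natAdd, Fin.val_castAdd] at this
    omega

theorem dn_append_right (β : Fin m → ℕ) (γ : Fin m' → ℕ) (j : Fin m') (r : ℕ) :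
    dn (Fin.append β γ) (Fin.natAdd m j) r = Fin.append β (dn γ j r) := by
  funext i
  refine Fin.addCases (fun i => ?_) (fun i => ?_) i
  · rw [Fin.append_left, dn_ne, Fin.append_left]
    intro h'
    have := congrArg Fin.val h'
    simp only [Fin.val_natAdd, Fin.val_castAdd] at this
    omega
  · rw [Fin.append_right]
    by_cases h : i = j
    · subst h; rw [dn_self, dn_self, Fin.append_right]
    · rw [dn_ne _ _ h, dn_ne, Fin.append_right]
      exact fun h' => h (Fin.natAdd_injective _ _ h')

theorem J_step {β : Fin m → ℕ} {γ : Fin m' → ℕ} (hβ : ∀ i, β i < m + m')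
    (hγ : ∀ i, γ i < m + m') {r : ℕ} (hr : 0 < r) :
    (∑ j, if r ≤ β j then J (dn β j r) γ else 0) =
      - ∑ k, if r ≤ γ k then J β (dn γ k r) else 0 := by
  rw [eq_neg_iff_add_eq_zero]
  have h : FM (r ::ₘ 0) (Fin.append β γ) = 0 := by
    apply FM_singleton_eq_zero _ hr
    intro i
    refine Fin.addCases (fun i => ?_) (fun i => ?_) i
    · rw [Fin.append_left]; exact hβ i
    · rw [Fin.append_right]; exact hγ i
  refine Eq.trans ?_ h
  rw [FM_cons, Fin.sum_univ_add]
  congr 1
  · refine Finset.sum_congr rfl fun j _ => ?_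
    rw [Fin.append_left, dn_append_left, FM_zero]; rfl
  · refine Finset.sum_congr rfl fun j _ => ?_
    rw [Fin.append_right, dn_append_right, FM_zero]; rfl

/-- Lowering of the first tuple. -/
def LJ : List ℕ → (Fin m → ℕ) → (Fin m' → ℕ) → ℤ
  | [], β, γ => J β γ
  | r :: ν, β, γ => ∑ j, if r ≤ β j then LJ ν (dn β j r) γ else 0

/-- Lowering of the second tuple. -/
def RJ : List ℕ → (Fin m → ℕ) → (Fin m' → ℕ) → ℤ
  | [], β, γ => J β γ
  | r :: ν, β, γ => ∑ j, if r ≤ γ j then RJ ν β (dn γ j r) else 0

theorem dn_lt {β : Fin m → ℕ} {N : ℕ} (h : ∀ i, β i < N) (j : Fin m) (r : ℕ) (i : Fin m) :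
    dn β j r i < N := by
  by_cases hi : i = j
  · subst hi; rw [dn_self]; exact lt_of_le_of_lt (Nat.sub_le _ _) (h i)
  · rw [dn_ne _ _ hi]; exact h i

theorem RJ_step (ν : List ℕ) {r : ℕ} (hr : 0 < r) {β : Fin m → ℕ} {γ : Fin m' → ℕ}
    (hβ : ∀ i, β i < m + m') (hγ : ∀ i, γ i < m + m') :
    (∑ j, if r ≤ β j then RJ ν (dn β j r) γ else 0) = - RJ (ν ++ [r]) β γ := by
  induction ν generalizing γ with
  | nil =>
    simp only [RJ, List.nil_append]
    exact J_step hβ hγ hr
  | cons a ν ih =>
    simp only [RJ, List.cons_append]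
    rw [← Finset.sum_neg_distrib]
    have h1 : ∀ j, (if r ≤ β j then ∑ k, (if a ≤ γ k then RJ ν (dn β j r) (dn γ k a) else 0) else 0) =
        ∑ k, if a ≤ γ k then (if r ≤ β j then RJ ν (dn β j r) (dn γ k a) else 0) else 0 := by
      intro j
      split_ifs with h
      · rfl
      · simp
    simp only [h1]
    rw [Finset.sum_comm]
    refine Finset.sum_congr rfl fun k _ => ?_
    split_ifs with hk
    · exact ih (dn_lt hγ k a)
    · simp

theorem LJ_eq_RJ (ν : List ℕ) (hν : ∀ r ∈ ν, 0 < r) {β : Fin m → ℕ} {γ : Fin m' → ℕ}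
    (hβ : ∀ i, β i < m + m') (hγ : ∀ i, γ i < m + m') :
    LJ ν β γ = (-1) ^ ν.length * RJ ν.reverse β γ := by
  induction ν generalizing β with
  | nil => simp [LJ, RJ]
  | cons r ν ih =>
    simp only [LJ]
    have h1 : ∀ j, (if r ≤ β j then LJ ν (dn β j r) γ else 0) =
        (-1) ^ ν.length * (if r ≤ β j then RJ ν.reverse (dn β j r) γ else 0) := by
      intro j
      split_ifs with h
      · exact ih (fun s hs => hν s (List.mem_cons_of_mem _ hs)) (dn_lt hβ j r)
      · simp
    simp only [h1]
    rw [← Finset.mul_sum, RJ_step _ (hν r List.mem_cons_self) hβ hγ, List.length_cons,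
      List.reverse_cons, pow_succ]
    ring

/-! ### The vacuum of the second tuple -/

theorem J_iota (β : Fin m → ℕ) : J β (fun k : Fin m' => m + (k : ℕ)) = vac β := by
  by_cases hβ : Function.Injective β ∧ ∀ i, β i < m
  · obtain ⟨σ, hσ⟩ := exists_perm_of_lt hβ.1 hβ.2
    have h1 : β = (fun i : Fin m => (i : ℕ)) ∘ σ := by rw [hσ]; rfl
    rw [h1, J_comp_left, vac_alt, smul_eq_mul]
    congr 1
    unfold J
    have h2 : Fin.append (fun i : Fin m => (i : ℕ)) (fun k : Fin m' => m + (k : ℕ)) =
        fun i : Fin (m + m') => (i : ℕ) := by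
      funext i
      refine Fin.addCases (fun i => ?_) (fun i => ?_) i
      · rw [Fin.append_left]; simp
      · rw [Fin.append_right]; simp
    rw [h2, vac_eq_pair, vac_eq_pair, pair_self_of_strictMono (fun i j h => h),
      pair_self_of_strictMono (fun i j h => h)]
  · have h1 : vac β = 0 := by
      unfold vac
      refine Finset.sum_eq_zero fun σ _ => if_neg ?_
      rintro rfl
      exact hβ ⟨fun i j h => σ.injective (Fin.ext h), fun i => (σ i).2⟩
    rw [h1]
    unfold J vac
    refine Finset.sum_eq_zero fun σ _ => if_neg ?_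
    intro h
    apply hβ
    have hinj : Function.Injective (Fin.append β (fun k : Fin m' => m + (k : ℕ))) := by
      rw [h]; exact fun i j h => σ.injective (Fin.ext h)
    have hlt : ∀ i, (Fin.append β (fun k : Fin m' => m + (k : ℕ))) i < m + m' := by
      rw [h]; exact fun i => (σ i).2
    refine ⟨?_, ?_⟩
    · intro i j hij
      have h2 : Fin.castAdd m' i = Fin.castAdd m' j := by
        apply hinj
        rw [Fin.append_left, Fin.append_left, hij]
      exact Fin.castAdd_injective _ _ h2
    · intro i
      by_contra hcon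
      push Not at hcon
      have h2 := hlt (Fin.castAdd m' i)
      rw [Fin.append_left] at h2
      have h3 : Fin.castAdd m' i = Fin.natAdd m ⟨β i - m, by omega⟩ := by
        apply hinj
        rw [Fin.append_left, Fin.append_right]
        simp only
        omega
      have h4 := congrArg Fin.val h3
      simp only [Fin.val_castAdd, Fin.val_natAdd] at h4
      have := i.2
      omega

theorem LJ_iota (ν : List ℕ) (β : Fin m → ℕ) : LJ ν β (fun k : Fin m' => m + (k : ℕ)) = F ν β := by
  induction ν generalizing β with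
  | nil => exact J_iota β
  | cons r ν ih =>
    simp only [LJ, F_cons, ih]

/-! ### Raising -/

/-- Raising of `δ` and pairing with `β'`. -/
def UPp (β' : Fin m' → ℕ) : List ℕ → (Fin m' → ℕ) → ℤ
  | [], δ => pair δ β'
  | r :: ν, δ => ∑ k, UPp β' ν (up δ k r)

/-- Lowering of `γ` and pairing with `δ`. -/
def FP (δ : Fin m' → ℕ) : List ℕ → (Fin m' → ℕ) → ℤ
  | [], γ => pair δ γ
  | r :: ν, γ => ∑ k, if r ≤ γ k then FP δ ν (dn γ k r) else 0

theorem UPp_append (β' : Fin m' → ℕ) (ν : List ℕ) (r : ℕ) (δ : Fin m' → ℕ) :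
    UPp β' (ν ++ [r]) δ = ∑ k, if r ≤ β' k then UPp (dn β' k r) ν δ else 0 := by
  induction ν generalizing δ with
  | nil =>
    simp only [UPp, List.nil_append]
    exact (pair_dn_up δ β' r).symm
  | cons a ν ih =>
    simp only [UPp, List.cons_append, ih]
    rw [Finset.sum_comm]
    refine Finset.sum_congr rfl fun k _ => ?_
    split_ifs with h
    · rfl
    · simp

theorem UPp_reverse (ν : List ℕ) (δ β' : Fin m' → ℕ) : UPp β' ν.reverse δ = FP δ ν β' := by
  induction ν generalizing β' with
  | nil => rfl
  | cons r ν ih =>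
    rw [List.reverse_cons, UPp_append]
    simp only [FP, ih]

theorem UPp_eq_zero {β' : Fin m' → ℕ} {N : ℕ} (hβ' : ∀ i, β' i < N) (ν : List ℕ)
    {δ : Fin m' → ℕ} (h : ∃ k, N ≤ δ k) : UPp β' ν δ = 0 := by
  induction ν generalizing δ with
  | nil =>
    obtain ⟨k, hk⟩ := h
    simp only [UPp, pair]
    refine Finset.sum_eq_zero fun σ _ => if_neg ?_
    rintro rfl
    have := hβ' (σ k)
    simp only [Function.comp_apply] at hk
    omega
  | cons r ν ih =>
    obtain ⟨k, hk⟩ := h
    simp only [UPp]
    refine Finset.sum_eq_zero fun l _ => ih ⟨k, ?_⟩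
    by_cases hl : k = l
    · subst hl; rw [up_self]; omega
    · rw [up_ne _ _ hl]; exact hk

/-- The reflection of the entries. -/
def rho (N : ℕ) (γ : Fin m' → ℕ) : Fin m' → ℕ := fun k => N - 1 - γ k

theorem rho_dn {N : ℕ} {γ : Fin m' → ℕ} (hγ : ∀ i, γ i < N) {k : Fin m'} {r : ℕ} (h : r ≤ γ k) :
    rho N (dn γ k r) = up (rho N γ) k r := by
  funext i
  unfold rho
  by_cases hi : i = k
  · subst hi
    rw [dn_self, up_self]
    have := hγ i
    omega
  · rw [dn_ne _ _ hi, up_ne _ _ hi]

theorem pair_self_of_injective {β' : Fin m' → ℕ} (h : Function.Injective β') : pair β' β' = 1 := by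
  unfold pair
  rw [Finset.sum_eq_single 1]
  · simp
  · intro σ _ hσ
    rw [if_neg]
    intro h'
    apply hσ
    ext i
    have := congrFun h' i
    simp only [Function.comp_apply] at this
    rw [← h this]; simp
  · simp

section Refl

variable {β : Fin m → ℕ} {β' : Fin m' → ℕ}

/-- `β'` enumerates the reflected complement of `β` in `{0, …, m + m' - 1}`. -/
structure IsRefl (β : Fin m → ℕ) (β' : Fin m' → ℕ) : Prop where
  inj : Function.Injective β
  inj' : Function.Injective β'
  lt : ∀ i, β i < m + m'
  lt' : ∀ i, β' i < m + m'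
  iff : ∀ b < m + m', b ∈ Set.range β ↔ m + m' - 1 - b ∉ Set.range β'

theorem J_eq (h : IsRefl β β') {γ : Fin m' → ℕ} (hγ : ∀ i, γ i < m + m') :
    J β γ = J β (rho (m + m') β') * pair (rho (m + m') γ) β' := by
  by_cases hinj : Function.Injective (Fin.append β γ)
  · have hγinj : Function.Injective γ := by
      intro i j hij
      have h2 : Fin.natAdd m i = Fin.natAdd m j := by
        apply hinj
        rw [Fin.append_right, Fin.append_right, hij]
      exact Fin.natAdd_injective _ _ h2
    have hrange : Set.range (rho (m + m') γ) ⊆ Set.range β' := by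
      rintro _ ⟨k, rfl⟩
      by_contra hcon
      have h1 := (h.iff (γ k) (hγ k)).mpr hcon
      obtain ⟨i, hi⟩ := h1
      have h2 : Fin.castAdd m' i = Fin.natAdd m k := by
        apply hinj
        rw [Fin.append_left, Fin.append_right, hi]
      have h3 := congrArg Fin.val h2
      simp only [Fin.val_castAdd, Fin.val_natAdd] at h3
      have := i.2
      omega
    have hrinj : Function.Injective (rho (m + m') γ) := by
      intro i j hij
      apply hγinj
      unfold rho at hij
      have h1 := hγ i
      have h2 := hγ j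
      omega
    have hcard : Set.range (rho (m + m') γ) = Set.range β' := by
      apply Set.eq_of_subset_of_ncard_le hrange
      rw [← Set.image_univ, ← Set.image_univ, Set.ncard_image_of_injective _ hrinj,
        Set.ncard_image_of_injective _ h.inj']
    obtain ⟨σ, hσ⟩ := exists_perm_of_range_eq h.inj' hrinj hcard.symm
    have hγ2 : γ = rho (m + m') β' ∘ σ := by
      funext k
      have h1 := congrFun hσ k
      unfold rho at h1 ⊢
      simp only [Function.comp_apply] at h1 ⊢
      have h2 := hγ k
      omega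
    have hp : pair (β' ∘ σ) β' = sg σ * pair β' β' := pair_alt_left β' σ β'
    rw [hσ, hp, pair_self_of_injective h.inj', hγ2, J_comp_right]
    ring
  · have h1 : J β γ = 0 := vac_alt.eq_zero_of_not_injective two_torsion_int hinj
    rw [h1]
    have h2 : pair (rho (m + m') γ) β' = 0 := by
      unfold pair
      refine Finset.sum_eq_zero fun σ _ => if_neg ?_
      intro hσ
      apply hinj
      have hγ2 : ∀ k, γ k = m + m' - 1 - β' (σ k) := by
        intro k
        have h1 := congrFun hσ k
        unfold rho at h1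
        simp only [Function.comp_apply] at h1
        have h2 := hγ k
        omega
      have hdis : ∀ i k, β i ≠ γ k := by
        intro i k hik
        have h3 := (h.iff (β i) (h.lt i)).mp ⟨i, rfl⟩
        apply h3
        refine ⟨σ k, ?_⟩
        rw [hik, hγ2]
        have := h.lt' (σ k)
        omega
      intro a b
      refine Fin.addCases (fun i => ?_) (fun i => ?_) a
      · refine Fin.addCases (fun j => ?_) (fun j => ?_) b
        · rw [Fin.append_left, Fin.append_left]
          intro hij
          rw [h.inj hij]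
        · rw [Fin.append_left, Fin.append_right]
          intro hij
          exact absurd hij (hdis i j)
      · refine Fin.addCases (fun j => ?_) (fun j => ?_) b
        · rw [Fin.append_left, Fin.append_right]
          intro hij
          exact absurd hij.symm (hdis j i)
        · rw [Fin.append_right, Fin.append_right]
          intro hij
          rw [hγ2, hγ2] at hij
          have h3 := h.lt' (σ i)
          have h4 := h.lt' (σ j)
          have h5 : β' (σ i) = β' (σ j) := by omega
          rw [σ.injective (h.inj' h5)]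
    rw [h2, mul_zero]

theorem RJ_eq (h : IsRefl β β') (ν : List ℕ) {γ : Fin m' → ℕ} (hγ : ∀ i, γ i < m + m') :
    RJ ν β γ = J β (rho (m + m') β') * UPp β' ν (rho (m + m') γ) := by
  induction ν generalizing γ with
  | nil => exact J_eq h hγ
  | cons r ν ih =>
    simp only [RJ, UPp]
    rw [Finset.mul_sum]
    refine Finset.sum_congr rfl fun k _ => ?_
    split_ifs with hk
    · rw [ih (dn_lt hγ k r), rho_dn hγ hk]
    · rw [UPp_eq_zero h.lt' ν ⟨k, ?_⟩, mul_zero]
      rw [up_self]
      unfold rho
      have := hγ k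
      omega

/-- **The beta-numbers of the conjugate partition.** -/
theorem F_refl (h : IsRefl β β') : ∃ c : ℤ, ∀ ν : List ℕ, (∀ r ∈ ν, 0 < r) →
    F ν β = (-1) ^ ν.length * (c * F ν β') := by
  refine ⟨J β (rho (m + m') β') * sg (Fin.revPerm : Equiv.Perm (Fin m')), fun ν hν => ?_⟩
  rw [← LJ_iota (m' := m'), LJ_eq_RJ ν hν h.lt (fun k => by have := k.2; omega),
    RJ_eq h _ (fun k => by have := k.2; omega), UPp_reverse]
  have h1 : ∀ γ : Fin m' → ℕ, FP (rho (m + m') fun k : Fin m' => m + (k : ℕ)) ν γ =
      sg (Fin.revPerm : Equiv.Perm (Fin m')) * F ν γ := by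
    intro γ
    clear hν
    induction ν generalizing γ with
    | nil =>
      have h2 : (rho (m + m') fun k : Fin m' => m + (k : ℕ)) =
          (fun i : Fin m' => (i : ℕ)) ∘ (Fin.revPerm : Equiv.Perm (Fin m')) := by
        funext k
        unfold rho
        simp only [Function.comp_apply, Fin.revPerm_apply, Fin.val_rev]
        have := k.2
        omega
      simp only [FP, F_nil]
      rw [h2, vac_eq_pair, H614.pair_comm γ]
      exact pair_alt_left γ _ _
    | cons r ν ih =>
      simp only [FP, F_cons, ih]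
      rw [Finset.mul_sum]
      refine Finset.sum_congr rfl fun k _ => ?_
      split_ifs <;> simp
  rw [h1]
  ring

/-- Reflection for multisets of cycle lengths. -/
theorem FM_refl (h : IsRefl β β') : ∃ c : ℤ, ∀ s : Multiset ℕ, (∀ r ∈ s, 0 < r) →
    FM s β = (-1) ^ (Multiset.card s) * (c * FM s β') := by
  obtain ⟨c, hc⟩ := F_refl h
  refine ⟨c, fun s => ?_⟩
  induction s using Quotient.inductionOn with
  | h ν =>
    intro hs
    exact hc ν (fun r hr => hs r (by simpa using hr))

end Refl

end Cfsg.Agent.H615.AltRefl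
end

-- part: H615/AltConj
section
/-!
# The conjugate partition and the sign character

* `exists_refl` : every strictly increasing tuple with entries below `m + m'` has a reflection;
* `ch_refl` : `ch β = sign * ch β'` for the reflection `β'` of `β`;
* `res_refl` : the colours of the reflection.
-/

set_option autoImplicit false
set_option linter.unusedSectionVars false

namespace Cfsg.Agent.H615.AltConj

open Finset Cfsg Cfsg.Agent.H614 Cfsg.Agent.H615.AltRefl Cfsg.Agent.Characters.Core
open scoped ComplexConjugate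

universe u

variable {m m' : ℕ}

theorem IsRefl.symm {β : Fin m → ℕ} {β' : Fin m' → ℕ} (h : IsRefl β β') : IsRefl β' β where
  inj := h.inj'
  inj' := h.inj
  lt := fun i => by have := h.lt' i; omega
  lt' := fun i => by have := h.lt i; omega
  iff := by
    intro b hb
    have h1 := h.iff (m' + m - 1 - b) (by omega)
    have h2 : m + m' - 1 - (m' + m - 1 - b) = b := by omega
    rw [h2] at h1
    tauto

/-- The entries of a beta-set of a partition of `n` are at most `n + i`. -/
theorem le_of_strictMono {β : Fin m → ℕ} (hβ : StrictMono β) {n : ℕ}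
    (hs : ∑ i, β i = n + ∑ i : Fin m, (i : ℕ)) (i : Fin m) : β i ≤ i + n := by
  have h1 := strictMono_le hβ
  by_contra hcon
  push Not at hcon
  have h2 : ∑ j ∈ univ.erase i, (j : ℕ) ≤ ∑ j ∈ univ.erase i, β j :=
    Finset.sum_le_sum fun j _ => h1 j
  rw [← Finset.add_sum_erase _ _ (mem_univ i), ← Finset.add_sum_erase _ (fun j : Fin m => (j : ℕ))
    (mem_univ i)] at hs
  omega

theorem lt_of_strictMono {β : Fin m → ℕ} (hβ : StrictMono β) {n : ℕ}
    (hs : ∑ i, β i = n + ∑ i : Fin m, (i : ℕ)) (hn : n ≤ m') (i : Fin m) : β i < m + m' := by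
  have h1 := le_of_strictMono hβ hs i
  have := i.2
  omega

/-- Every strictly increasing tuple with entries below `m + m'` has a reflection. -/
theorem exists_refl {β : Fin m → ℕ} (hβ : StrictMono β) (hlt : ∀ i, β i < m + m') :
    ∃ β' : Fin m' → ℕ, StrictMono β' ∧ IsRefl β β' := by
  classical
  obtain ⟨S, hS⟩ : ∃ S : Finset ℕ,
      S = (range (m + m')).filter (fun b => m + m' - 1 - b ∉ univ.image β) := ⟨_, rfl⟩
  have hcard : S.card = m' := by
    have h1 : ((range (m + m')).filter (fun b => m + m' - 1 - b ∈ univ.image β)).card =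
        (univ.image β).card := by
      refine Finset.card_bij' (i := fun x _ => m + m' - 1 - x) (j := fun x _ => m + m' - 1 - x) ?_ ?_ ?_ ?_
      · intro x hx
        exact (Finset.mem_filter.mp hx).2
      · intro x hx
        obtain ⟨i, -, rfl⟩ := Finset.mem_image.mp hx
        rw [Finset.mem_filter, Finset.mem_range]
        have h2 := hlt i
        refine ⟨by omega, ?_⟩
        have h3 : m + m' - 1 - (m + m' - 1 - β i) = β i := by omega
        rw [h3]
        exact Finset.mem_image_of_mem _ (mem_univ i)
      · intro x hx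
        have h2 := Finset.mem_range.mp (Finset.mem_filter.mp hx).1
        omega
      · intro x hx
        obtain ⟨i, -, rfl⟩ := Finset.mem_image.mp hx
        have h2 := hlt i
        omega
    rw [Finset.card_image_of_injective _ hβ.injective, Finset.card_univ, Fintype.card_fin] at h1
    have h2 := Finset.card_filter_add_card_filter_not (s := range (m + m'))
      (fun b => m + m' - 1 - b ∈ univ.image β)
    rw [Finset.card_range, h1, ← hS] at h2
    omega
  refine ⟨S.orderEmbOfFin hcard, (S.orderEmbOfFin hcard).strictMono, ?_⟩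
  have hr : Set.range (S.orderEmbOfFin hcard) = (S : Set ℕ) := Finset.range_orderEmbOfFin _ _
  have hmem : ∀ b, b ∈ S ↔ b < m + m' ∧ m + m' - 1 - b ∉ univ.image β := by
    intro b; rw [hS, Finset.mem_filter, Finset.mem_range]
  refine ⟨hβ.injective, (S.orderEmbOfFin hcard).injective, hlt, ?_, ?_⟩
  · intro i
    exact ((hmem _).mp (Finset.orderEmbOfFin_mem _ _ _)).1
  · intro b hb
    rw [hr, Finset.mem_coe, hmem]
    have h3 : m + m' - 1 - (m + m' - 1 - b) = b := by omega
    rw [h3]
    have h4 : b ∈ univ.image β ↔ b ∈ Set.range β := by simp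
    rw [h4]
    constructor
    · intro h h'
      exact h'.2 h
    · intro h
      by_contra hcon
      exact h ⟨by omega, hcon⟩

/-- Strictly increasing reflections are unique. -/
theorem refl_unique {β : Fin m → ℕ} {γ δ : Fin m' → ℕ} (hγ : StrictMono γ) (hδ : StrictMono δ)
    (h1 : IsRefl β γ) (h2 : IsRefl β δ) : γ = δ := by
  apply (StrictMono.range_inj hγ hδ).mp
  ext b
  by_cases hb : b < m + m'
  · have h3 := h1.iff (m + m' - 1 - b) (by omega)
    have h4 := h2.iff (m + m' - 1 - b) (by omega)
    have h5 : m + m' - 1 - (m + m' - 1 - b) = b := by omega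
    rw [h5] at h3 h4
    tauto
  · constructor
    · rintro ⟨i, rfl⟩
      exact absurd (h1.lt' i) hb
    · rintro ⟨i, rfl⟩
      exact absurd (h2.lt' i) hb

section Colour

/-- The numbers of entries of a tuple and its reflection on opposite runners. -/
theorem res_refl {p : ℕ} (hp : 0 < p) (hN : p ∣ m + m') {β : Fin m → ℕ} {β' : Fin m' → ℕ}
    (h : IsRefl β β') {i : ℕ} (hi : i < p) :
    res p β' i + res p β (p - 1 - i) = (m + m') / p := by
  classical
  obtain ⟨K, hK⟩ := hN
  have hres : ∀ {l : ℕ} (γ : Fin l → ℕ) (_ : Function.Injective γ) (_ : ∀ j, γ j < m + m') (i : ℕ),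
      res p γ i = ((range (m + m')).filter (fun b => b % p = i ∧ b ∈ Set.range γ)).card := by
    intro l γ hγ hlt i
    unfold res
    rw [← Finset.card_image_of_injective _ hγ]
    congr 1
    ext b
    simp only [Finset.mem_image, Finset.mem_filter, Finset.mem_univ, true_and, Finset.mem_range]
    constructor
    · rintro ⟨j, hj, rfl⟩
      exact ⟨hlt j, hj, ⟨j, rfl⟩⟩
    · rintro ⟨_, hb, ⟨j, rfl⟩⟩
      exact ⟨j, hb, rfl⟩
  rw [hres β' h.inj' h.lt', hres β h.inj h.lt]
  have h1 : ((range (m + m')).filter (fun b => b % p = p - 1 - i ∧ b ∈ Set.range β)).card =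
      ((range (m + m')).filter (fun b => b % p = i ∧ b ∉ Set.range β')).card := by
    have hmod : ∀ b < m + m', ∀ i < p, b % p = i → (m + m' - 1 - b) % p = p - 1 - i := by
      intro b hb i hi hbi
      have h2 := Nat.div_add_mod b p
      rw [hbi] at h2
      have hdiv : b / p < K := by
        by_contra hcon
        push Not at hcon
        have := Nat.mul_le_mul_left p hcon
        omega
      obtain ⟨L, hL⟩ : ∃ L, K = b / p + 1 + L := ⟨K - (b / p + 1), by omega⟩
      have h3 : m + m' - 1 - b = p * L + (p - 1 - i) := by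
        rw [hL] at hK
        have h4 : p * (b / p + 1 + L) = p * (b / p) + p + p * L := by ring
        omega
      rw [h3, Nat.mul_add_mod, Nat.mod_eq_of_lt (by omega)]
    refine Finset.card_bij' (i := fun x _ => m + m' - 1 - x) (j := fun x _ => m + m' - 1 - x) ?_ ?_ ?_ ?_
    · intro b hb
      simp only [Finset.mem_filter, Finset.mem_range] at hb ⊢
      refine ⟨by omega, ?_, (h.iff b hb.1).mp hb.2.2⟩
      rw [hmod b hb.1 (p - 1 - i) (by omega) hb.2.1]
      omega
    · intro b hb
      simp only [Finset.mem_filter, Finset.mem_range] at hb ⊢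
      refine ⟨by omega, hmod b hb.1 i hi hb.2.1, ?_⟩
      have h2 := h.iff (m + m' - 1 - b) (by omega)
      have h3 : m + m' - 1 - (m + m' - 1 - b) = b := by omega
      rw [h3] at h2
      exact h2.mpr hb.2.2
    · intro b hb
      simp only [Finset.mem_filter, Finset.mem_range] at hb
      omega
    · intro b hb
      simp only [Finset.mem_filter, Finset.mem_range] at hb
      omega
  rw [h1]
  have h2 : ((range (m + m')).filter (fun b => b % p = i)).card = (m + m') / p := by
    rw [hK, Nat.mul_div_cancel_left _ hp]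
    conv_rhs => rw [← Finset.card_range K]
    refine Finset.card_bij' (i := fun b _ => b / p) (j := fun t _ => p * t + i) ?_ ?_ ?_ ?_
    · intro b hb
      simp only [Finset.mem_filter, Finset.mem_range] at hb ⊢
      exact Nat.div_lt_of_lt_mul hb.1
    · intro t ht
      simp only [Finset.mem_filter, Finset.mem_range] at ht ⊢
      refine ⟨?_, by rw [Nat.mul_add_mod, Nat.mod_eq_of_lt hi]⟩
      have h3 : p * (t + 1) ≤ p * K := Nat.mul_le_mul_left _ ht
      rw [Nat.mul_succ] at h3
      omega
    · intro b hb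
      simp only [Finset.mem_filter, Finset.mem_range] at hb
      have := Nat.div_add_mod b p
      rw [hb.2] at this
      exact this
    · intro t ht
      rw [Nat.mul_add_div hp, Nat.div_eq_of_lt hi, add_zero]
  rw [← h2, ← Finset.card_filter_add_card_filter_not (s := (range (m + m')).filter (fun b => b % p = i))
    (fun b => b ∈ Set.range β'), Finset.filter_filter, Finset.filter_filter]

theorem res_of_le {p i : ℕ} (hp : 0 < p) (hi : p ≤ i) (β : Fin m → ℕ) : res p β i = 0 := by
  unfold res
  rw [Finset.card_eq_zero, Finset.filter_eq_empty_iff]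
  intro j _ h
  have := Nat.mod_lt (β j) hp
  omega

theorem sameCol_refl {p : ℕ} (hp : 0 < p) (hN : p ∣ m + m') {β γ : Fin m → ℕ} {β' γ' : Fin m' → ℕ}
    (hβ : IsRefl β β') (hγ : IsRefl γ γ') (h : SameCol p β γ) : SameCol p β' γ' := by
  intro i
  by_cases hi : i < p
  · have h1 := res_refl hp hN hβ hi
    have h2 := res_refl hp hN hγ hi
    have h3 := h (p - 1 - i)
    omega
  · rw [res_of_le hp (by omega), res_of_le hp (by omega)]

end Colour

section Group

variable {α : Type u} [Fintype α] [DecidableEq α]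

/-- The sign as a complex number. -/
noncomputable def sgn (g : Equiv.Perm α) : ℂ := ((Equiv.Perm.sign g : ℤˣ) : ℤ)

theorem sgn_mul_self (g : Equiv.Perm α) : sgn g * sgn g = 1 := by
  unfold sgn
  rcases Int.units_eq_one_or (Equiv.Perm.sign g) with h | h <;> rw [h] <;> simp

theorem neg_one_pow_card_ty (g : Equiv.Perm α) :
    (-1 : ℂ) ^ (Multiset.card (ty g)) = (-1) ^ (Fintype.card α) * sgn g := by
  have h1 : g.cycleType.sum ≤ Fintype.card α := by
    rw [Equiv.Perm.sum_cycleType]; exact Finset.card_le_univ _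
  unfold sgn
  rw [Equiv.Perm.sign_of_cycleType, ty_eq, Multiset.card_add, Multiset.card_replicate]
  push_cast
  rw [← pow_add]
  obtain ⟨k, hk⟩ : ∃ k, Fintype.card α = g.cycleType.sum + k := ⟨_, (Nat.add_sub_cancel' h1).symm⟩
  rw [hk, Nat.add_sub_cancel_left]
  have h2 : g.cycleType.sum + k + (g.cycleType.sum + Multiset.card g.cycleType) =
      (Multiset.card g.cycleType + k) + 2 * g.cycleType.sum := by ring
  rw [h2, pow_add _ _ (2 * _), pow_mul]
  simp

theorem pos_ones (n : ℕ) : ∀ r ∈ Multiset.replicate n 1, 0 < r := by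
  intro r hr
  rw [Multiset.eq_of_mem_replicate hr]
  exact one_pos

theorem sum_refl {n : ℕ} {β : Fin m → ℕ} {β' : Fin m' → ℕ} (h : IsRefl β β') (hβ : StrictMono β)
    (hs : ∑ i, β i = n + ∑ i : Fin m, (i : ℕ)) : ∑ i, β' i = n + ∑ i : Fin m', (i : ℕ) := by
  obtain ⟨c, hc⟩ := FM_refl h
  have h1 := hc (Multiset.replicate n 1) (pos_ones n)
  have h2 := FM_ones_pos n hβ hs
  by_contra hcon
  have h3 : FM (Multiset.replicate n 1) β' = 0 := by
    apply FM_eq_zero_of_sum
    simpa using hcon
  rw [h3] at h1
  simp only [mul_zero] at h1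
  omega

/-- **The character of the conjugate partition.** -/
theorem ch_refl {β : Fin m → ℕ} {β' : Fin m' → ℕ} (h : IsRefl β β') (hβ : StrictMono β)
    (hβ' : StrictMono β') (hs : ∑ i, β i = Fintype.card α + ∑ i : Fin m, (i : ℕ))
    (g : Equiv.Perm α) : ch α β g = sgn g * ch α β' g := by
  have hs' := sum_refl h hβ hs
  obtain ⟨c, hc⟩ := FM_refl h
  obtain ⟨d, hd⟩ := FM_refl (IsRefl.symm h)
  have h1 := hc (Multiset.replicate (Fintype.card α) 1) (pos_ones _)
  have h2 := hd (Multiset.replicate (Fintype.card α) 1) (pos_ones _)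
  have h3 := FM_ones_pos _ hβ hs
  have h4 := FM_ones_pos _ hβ' hs'
  rw [Multiset.card_replicate] at h1 h2
  obtain ⟨e, he⟩ : ∃ e : ℤ, e = (-1) ^ (Fintype.card α) := ⟨_, rfl⟩
  have he2 : e * e = 1 := by rw [he, ← pow_add, ← two_mul, pow_mul]; simp
  rw [← he] at h1 h2
  generalize FM (Multiset.replicate (Fintype.card α) 1) β = x at *
  generalize FM (Multiset.replicate (Fintype.card α) 1) β' = y at *
  have h5 : e * c = 1 := by
    have h6 : (e * c) * (e * d) = 1 := by
      have : x = (e * c) * (e * d) * x := by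
        nth_rewrite 1 [h1]
        nth_rewrite 1 [h2]
        ring
      have h7 : ((e * c) * (e * d) - 1) * x = 0 := by linarith
      rcases mul_eq_zero.mp h7 with h8 | h8
      · linarith
      · omega
    have h8 : 0 < e * c := by
      by_contra hcon
      push Not at hcon
      have : x = (e * c) * y := by rw [h1]; ring
      nlinarith
    rcases Int.isUnit_iff.mp (IsUnit.of_mul_eq_one _ h6) with h9 | h9
    · exact h9
    · omega
  rw [ch_apply, ch_apply, hc (ty g) (ty_pos g)]
  push_cast
  rw [neg_one_pow_card_ty]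
  have h6 : ((-1 : ℂ) ^ (Fintype.card α)) * (c : ℂ) = 1 := by
    rw [he] at h5
    exact_mod_cast congrArg (Int.cast (R := ℂ)) h5
  linear_combination (sgn g * ((FM (ty g) β' : ℤ) : ℂ)) * h6

end Group

end Cfsg.Agent.H615.AltConj
end
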