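import Mathlib
import Cfsg.Agent.Lib.PGroupFixedVector
import Cfsg.Agent.Blocks.Central
import Cfsg.Agent.Blocks.Orthogonality
import Cfsg.Agent.Blocks.Residue
import Cfsg.Agent.S0906
import Cfsg.Agent.S0914
set_option linter.all false

-- part: H615/DefZeroAlg
section
/-!
# At most one block of defect zero, from a Bruhat-type decomposition

`k` a field of characteristic `p`, `e` a central idempotent of `k[G]` belonging to a block of defect zero,
recorded by the trace identity `∑_h h (g e) h⁻¹ = c e(g⁻¹) e` with `c ≠ 0` (`DZ`). `BruData` records `U`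
(a `p`-subgroup), `T` normalising `U` and `n0` such that every `g` either satisfies `U ∩ g U g⁻¹ ≠ 1` or lies in
`U n0 T U`; `Root` records a root subgroup `x : F → U`, `h : Fˣ → T`, `m` satisfying the `SL₂`-relations. If the `h`
generate `T`, then `G` has at most one block of defect zero: `BruData.false_of_orthogonal`.
-/

set_option autoImplicit false
set_option linter.unusedSectionVars false

namespace Cfsg.Agent.H615.DefZeroAlg

open MonoidAlgebra

section Sums

/-- Summation over a group by cosets of a subgroup. -/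
theorem sum_eq_sum_quot {K A : Type*} [Group K] [Fintype K] [AddCommMonoid A] (C : Subgroup K) [Fintype C]
    [Fintype (K ⧸ C)] (f : K → A) : ∑ u, f u = ∑ q : K ⧸ C, ∑ c : C, f (q.out * c) := by
  rw [← Fintype.sum_prod_type']
  symm
  refine Function.Bijective.sum_comp (e := fun qc : (K ⧸ C) × C => qc.1.out * (qc.2 : K)) ?_ f
  constructor
  · rintro ⟨q, c⟩ ⟨q', c'⟩ h
    have h1 : (QuotientGroup.mk (q.out * (c : K)) : K ⧸ C) = QuotientGroup.mk (q'.out * (c' : K)) :=
      congrArg _ h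
    rw [QuotientGroup.mk_mul_of_mem _ c.2, QuotientGroup.mk_mul_of_mem _ c'.2, QuotientGroup.out_eq',
      QuotientGroup.out_eq'] at h1
    subst h1
    have h2 : (c : K) = c' := mul_left_cancel h
    rw [Subtype.ext h2]
  · intro u
    refine ⟨(QuotientGroup.mk u, ⟨(QuotientGroup.mk u : K ⧸ C).out⁻¹ * u, ?_⟩), ?_⟩
    · rw [← QuotientGroup.eq, QuotientGroup.out_eq']
    · simp

end Sums

variable {k G : Type*} [Field k] [Group G]

/-- group elements in the group algebra -/
noncomputable abbrev el (k : Type*) {G : Type*} [Field k] [Group G] (g : G) : MonoidAlgebra k G :=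
  MonoidAlgebra.of k G g

theorem el_mul (g h : G) : el k (g * h) = el k g * el k h := map_mul _ _ _

theorem el_one : el k (1 : G) = 1 := map_one _

theorem el_inv_mul (g : G) (a : MonoidAlgebra k G) : el k g⁻¹ * (el k g * a) = a := by
  rw [← mul_assoc, ← el_mul, inv_mul_cancel, el_one, one_mul]

theorem el_mul_inv (g : G) (a : MonoidAlgebra k G) : el k g * (el k g⁻¹ * a) = a := by
  rw [← mul_assoc, ← el_mul, mul_inv_cancel, el_one, one_mul]

theorem coeff_el [DecidableEq G] (g x : G) : (el k g).coeff x = if g = x then 1 else 0 := by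
  simp [el, MonoidAlgebra.of_apply, MonoidAlgebra.coeff_single, Finsupp.single_apply]

variable [Fintype G]

theorem eq_sum_coeff (a : MonoidAlgebra k G) : a = ∑ g : G, a.coeff g • el k g := by
  classical
  apply Blocks.Central.ext_coeff
  intro x
  rw [MonoidAlgebra.coeff_sum]
  simp

theorem coeff_mul_el (a : MonoidAlgebra k G) (g x : G) : (a * el k g).coeff x = a.coeff (x * g⁻¹) := by
  classical
  rw [Blocks.Central.coeff_mul_eq_sum, Finset.sum_eq_single (x * g⁻¹)]
  · rw [coeff_el, if_pos (by group), mul_one]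
  · intro y _ hy
    rw [coeff_el, if_neg, mul_zero]
    rintro rfl
    apply hy
    group
  · intro h; exact absurd (Finset.mem_univ _) h

/-- A central idempotent of defect zero. -/
structure DZ (e : MonoidAlgebra k G) (c : k) : Prop where
  ne : e ≠ 0
  idem : e * e = e
  cent : ∀ a, e * a = a * e
  c0 : c ≠ 0
  tr : ∀ g : G, ∑ h : G, el k h * (el k g * e) * el k h⁻¹ = (c * e.coeff g⁻¹) • e

namespace DZ

variable {e : MonoidAlgebra k G} {c : k}

theorem tr' (D : DZ e c) (a : MonoidAlgebra k G) (ha : a * e = a) :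
    ∑ h : G, el k h * a * el k h⁻¹ = (c * a.coeff 1) • e := by
  classical
  have h1 : a.coeff 1 = ∑ g : G, a.coeff g * e.coeff g⁻¹ := by
    conv_lhs => rw [← ha, Blocks.Central.coeff_mul_eq_sum]
    simp
  have h2 : a = ∑ g : G, a.coeff g • (el k g * e) := by
    conv_lhs => rw [← ha, eq_sum_coeff a, Finset.sum_mul]
    refine Finset.sum_congr rfl fun g _ => ?_
    rw [smul_mul_assoc]
  calc ∑ h : G, el k h * a * el k h⁻¹
      = ∑ h : G, ∑ g : G, a.coeff g • (el k h * (el k g * e) * el k h⁻¹) := by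
        refine Finset.sum_congr rfl fun h _ => ?_
        conv_lhs => rw [h2, Finset.mul_sum, Finset.sum_mul]
        refine Finset.sum_congr rfl fun g _ => ?_
        rw [mul_smul_comm, smul_mul_assoc]
    _ = ∑ g : G, a.coeff g • ((c * e.coeff g⁻¹) • e) := by
        rw [Finset.sum_comm]
        refine Finset.sum_congr rfl fun g _ => ?_
        rw [← Finset.smul_sum, D.tr]
    _ = (c * a.coeff 1) • e := by
        rw [h1, Finset.mul_sum, Finset.sum_smul]
        refine Finset.sum_congr rfl fun g _ => ?_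
        rw [smul_smul]
        congr 1
        ring

/-- `k[G] e` is a simple ring, in annihilator form. -/
theorem mul_eq_zero (D : DZ e c) {a b : MonoidAlgebra k G} (ha : a * e = a) (ha0 : a ≠ 0)
    (h : ∀ z : G, b * (el k z * a) = 0) : b * e = 0 := by
  classical
  obtain ⟨g, hg⟩ : ∃ g, a.coeff g ≠ 0 := by
    by_contra hcon
    push Not at hcon
    exact ha0 (Blocks.Central.ext_coeff fun g => by rw [hcon g]; rfl)
  have h1 : (a * el k g⁻¹) * e = a * el k g⁻¹ := by
    rw [mul_assoc, ← D.cent, ← mul_assoc, ha]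
  have h2 := D.tr' _ h1
  rw [coeff_mul_el, inv_inv, one_mul] at h2
  have h3 : b * ∑ x : G, el k x * (a * el k g⁻¹) * el k x⁻¹ = 0 := by
    rw [Finset.mul_sum]
    refine Finset.sum_eq_zero fun x _ => ?_
    have : b * (el k x * (a * el k g⁻¹) * el k x⁻¹) = (b * (el k x * a)) * (el k g⁻¹ * el k x⁻¹) := by
      simp only [mul_assoc]
    rw [this, h x, zero_mul]
  rw [h2, mul_smul_comm] at h3
  rcases smul_eq_zero.1 h3 with h4 | h4
  · rcases _root_.mul_eq_zero.1 h4 with h5 | h5
    · exact absurd h5 D.c0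
    · exact absurd h5 hg
  · exact h4

end DZ

/-- Group data of Bruhat type. -/
structure BruData (G : Type*) [Group G] (p : ℕ) where
  U : Subgroup G
  T : Subgroup G
  n0 : G
  pU : IsPGroup p U
  TU : ∀ t ∈ T, ∀ u ∈ U, t * u * t⁻¹ ∈ U
  cell : ∀ g : G, (∃ x ∈ U, x ≠ 1 ∧ g⁻¹ * x * g ∈ U) ∨ ∃ u ∈ U, ∃ t ∈ T, ∃ u' ∈ U, g = u * n0 * t * u'

/-- A root subgroup of `SL₂`-type in a group with `BruData`. -/
structure Root {G : Type*} [Group G] {p : ℕ} (D : BruData G p) (F : Type*) [Field F] where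
  x : F → G
  h : Fˣ → G
  m : G
  x_inj : Function.Injective x
  x_add : ∀ a b, x (a + b) = x a * x b
  h_mem : ∀ u, h u ∈ D.T
  h_mul : ∀ u v, h (u * v) = h u * h v
  mm : m * m ∈ D.T
  rel : ∀ a : Fˣ, m * x a * m = x (-(a⁻¹ : Fˣ)) * m * h (-a) * x (-(a⁻¹ : Fˣ))
  x_mem : ∀ a, x a ∈ D.U
  T_m : ∀ t ∈ D.T, m⁻¹ * t * m ∈ D.T
  T_x : ∀ t ∈ D.T, ∃ σ : Equiv.Perm F, ∀ a, t * x a * t⁻¹ = x (σ a)
  T_comm : ∀ t ∈ D.T, ∀ s ∈ D.T, t * s = s * t
  inv : ∀ u ∈ D.U, ∃ b : F, ∀ a, m⁻¹ * (x (a + b))⁻¹ * u * x a * m ∈ D.U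
  conj : ∀ a, (D.n0 * m⁻¹) * x a * (D.n0 * m⁻¹)⁻¹ ∈ D.U

namespace BruData

variable {p : ℕ} (D : BruData G p)

/-- The sum of the elements of `U`. -/
noncomputable def NU (k : Type*) [Field k] : MonoidAlgebra k G :=
  letI : Fintype D.U := Fintype.ofFinite _
  ∑ u : D.U, el k (u : G)

/-- `U`-fixed elements. -/
def Ufix (v : MonoidAlgebra k G) : Prop := ∀ u ∈ D.U, el k u * v = v

theorem NU_eq [Fintype D.U] : D.NU k = ∑ u : D.U, el k (u : G) := by
  unfold NU
  congr!

theorem NU_mul_el {u : G} (hu : u ∈ D.U) : D.NU k * el k u = D.NU k := by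
  have : Fintype D.U := Fintype.ofFinite _
  rw [NU_eq, Finset.sum_mul]
  refine Fintype.sum_equiv (Equiv.mulRight (⟨u, hu⟩ : D.U)) _ _ fun x => ?_
  simp

theorem NU_mul_eq_zero (C : Subgroup G) (hC : C ≤ D.U) [Fintype C] (z : MonoidAlgebra k G)
    (h : ∑ c : C, el k (c : G) * z = 0) : D.NU k * z = 0 := by
  classical
  have : Fintype D.U := Fintype.ofFinite _
  have : Fintype (C.subgroupOf D.U) := Fintype.ofFinite _
  have : Fintype (D.U ⧸ (C.subgroupOf D.U)) := Fintype.ofFinite _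
  rw [NU_eq, Finset.sum_mul, sum_eq_sum_quot (C.subgroupOf D.U)]
  refine Finset.sum_eq_zero fun q _ => ?_
  have h1 : ∑ c : C.subgroupOf D.U, el k (((q.out * (c : D.U) : D.U)) : G) * z =
      el k ((q.out : D.U) : G) * ∑ c : C, el k (c : G) * z := by
    rw [Finset.mul_sum]
    refine Fintype.sum_equiv (Subgroup.subgroupOfEquivOfLe hC).toEquiv _ _ fun c => ?_
    rw [Subgroup.coe_mul, el_mul, mul_assoc]
    rfl
  rw [h1, h, mul_zero]

theorem NU_mul_of_fixed [Fact p.Prime] [CharP k p] {x : G} (hx : x ∈ D.U) (hx1 : x ≠ 1) (z : MonoidAlgebra k G)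
    (hz : el k x * z = z) : D.NU k * z = 0 := by
  classical
  have : Fintype (Subgroup.zpowers x) := Fintype.ofFinite _
  refine D.NU_mul_eq_zero (Subgroup.zpowers x) (by rw [Subgroup.zpowers_le]; exact hx) z ?_
  have h1 : ∀ c : Subgroup.zpowers x, el k (c : G) * z = z := by
    rintro ⟨c, n, rfl⟩
    have hS : x ∈ (Subgroup.mk (Submonoid.mk (Subsemigroup.mk {g : G | el k g * z = z}
        (by intro a b ha hb; show el k (a * b) * z = z; rw [el_mul, mul_assoc, hb, ha]))
        (by show el k 1 * z = z; rw [el_one, one_mul]))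
        (by intro a ha; show el k a⁻¹ * z = z; conv_lhs => rw [← (show el k a * z = z from ha)]
            rw [el_inv_mul]) : Subgroup G) := hz
    exact Subgroup.zpow_mem _ hS n
  rw [Finset.sum_congr rfl (fun c _ => h1 c), Finset.sum_const, Finset.card_univ, ← Nat.card_eq_fintype_card,
    Nat.card_zpowers]
  obtain ⟨j, hj⟩ := (IsPGroup.iff_orderOf.1 D.pU) ⟨x, hx⟩
  have hj' : orderOf x = p ^ j := by rw [← hj, Subgroup.orderOf_mk]
  have hj0 : j ≠ 0 := by
    rintro rfl
    rw [pow_zero, orderOf_eq_one_iff] at hj'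
    exact hx1 hj'
  rw [hj', ← Nat.cast_smul_eq_nsmul k, Nat.cast_pow, CharP.cast_eq_zero, zero_pow hj0, zero_smul]

theorem coeff_of_Ufix {w : MonoidAlgebra k G} (hw : D.Ufix w) {u : G} (hu : u ∈ D.U) (g : G) :
    w.coeff (u * g) = w.coeff g := by
  classical
  have h := hw u⁻¹ (inv_mem hu)
  have h2 : (el k u⁻¹ * w).coeff g = w.coeff (u * g) := by
    rw [Blocks.Central.coeff_mul_eq_sum, Finset.sum_eq_single u⁻¹]
    · rw [coeff_el, if_pos rfl, one_mul, inv_inv]
    · intro y _ hy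
      rw [coeff_el, if_neg (Ne.symm hy), zero_mul]
    · intro h; exact absurd (Finset.mem_univ _) h
  rw [← h2, h]

/-- `U`-fixed elements of `k[G]` are multiples of `NU`. -/
theorem exists_NU_mul {w : MonoidAlgebra k G} (hw : D.Ufix w) : ∃ z, w = D.NU k * z := by
  classical
  have : Fintype D.U := Fintype.ofFinite _
  have : Fintype (G ⧸ D.U) := Fintype.ofFinite _
  refine ⟨∑ q : G ⧸ D.U, w.coeff (q.out⁻¹) • el k (q.out⁻¹), ?_⟩
  conv_lhs => rw [eq_sum_coeff w, ← Equiv.sum_comp (Equiv.inv G), sum_eq_sum_quot D.U]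
  rw [Finset.mul_sum]
  refine Finset.sum_congr rfl fun q _ => ?_
  rw [NU_eq, Finset.sum_mul]
  refine Fintype.sum_equiv (Equiv.inv D.U) _ _ fun c => ?_
  simp only [Equiv.inv_apply, mul_inv_rev]
  rw [D.coeff_of_Ufix hw (inv_mem c.2), el_mul, mul_smul_comm]
  rfl

theorem NU_mul_ne_zero {e : MonoidAlgebra k G} (he : ∀ a, e * a = a * e) {w : MonoidAlgebra k G}
    (hw : D.Ufix w) (hwe : w * e = w) (hw0 : w ≠ 0) : D.NU k * e ≠ 0 := by
  intro h
  obtain ⟨z, hz⟩ := D.exists_NU_mul hw
  apply hw0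
  rw [← hwe, hz, mul_assoc, ← he, ← mul_assoc, h, zero_mul]

theorem NU_mul_all [Fact p.Prime] [CharP k p] {w : MonoidAlgebra k G} (hw : D.Ufix w)
    (h : ∀ t ∈ D.T, D.NU k * (el k D.n0 * (el k t * w)) = 0) (g : G) : D.NU k * (el k g * w) = 0 := by
  rcases D.cell g with ⟨x, hx, hx1, hxg⟩ | ⟨u, hu, t, ht, u', hu', rfl⟩
  · refine D.NU_mul_of_fixed hx hx1 _ ?_
    have h1 := hw _ hxg
    conv_rhs => rw [← h1]
    rw [← mul_assoc, ← mul_assoc, ← el_mul, ← el_mul]
    congr 2
    group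
  · rw [el_mul, el_mul, el_mul, mul_assoc, mul_assoc, mul_assoc, hw u' hu', ← mul_assoc, D.NU_mul_el hu]
    exact h t ht

theorem eq_zero_of_NU [Fact p.Prime] [CharP k p] {e : MonoidAlgebra k G} {c : k} (he : DZ e c)
    {w : MonoidAlgebra k G} (hw : D.Ufix w) (hwe : w * e = w)
    (h : ∀ t ∈ D.T, D.NU k * (el k D.n0 * (el k t * w)) = 0) : w = 0 := by
  by_contra hw0
  exact D.NU_mul_ne_zero he.cent hw hwe hw0 (he.mul_eq_zero hwe hw0 fun z => D.NU_mul_all hw h z)

theorem Ufix_T {v : MonoidAlgebra k G} (hv : D.Ufix v) {t : G} (ht : t ∈ D.T) : D.Ufix (el k t * v) := by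
  intro u hu
  have h1 : t⁻¹ * u * t ∈ D.U := by
    have := D.TU t⁻¹ (inv_mem ht) u hu
    rwa [inv_inv] at this
  have h2 := hv _ h1
  conv_rhs => rw [← h2]
  rw [← mul_assoc, ← mul_assoc, ← el_mul, ← el_mul]
  congr 2
  group

end BruData

theorem sum_units {F A : Type*} [Field F] [Fintype F] [DecidableEq F] [AddCommMonoid A] (f : F → A) :
    ∑ a : F, f a = f 0 + ∑ u : Fˣ, f u := by
  rw [← Finset.add_sum_erase _ _ (Finset.mem_univ (0 : F))]
  congr 1
  symm
  refine Finset.sum_bij (fun u _ => (u : F)) ?_ ?_ ?_ ?_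
  · intro u _; simp
  · intro u _ v _ h; exact Units.ext h
  · intro b hb
    have hb0 : b ≠ 0 := (Finset.mem_erase.1 hb).1
    exact ⟨Units.mk0 b hb0, Finset.mem_univ _, rfl⟩
  · intro u _; rfl

namespace Root

variable {p : ℕ} {D : BruData G p} {F : Type*} [Field F] [Fintype F] (R : Root D F)

/-- The sum of the elements of the root subgroup. -/
noncomputable def NX (k : Type*) [Field k] : MonoidAlgebra k G := ∑ a : F, el k (R.x a)

theorem x_zero : R.x 0 = 1 := by
  have h := R.x_add 0 0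
  rw [add_zero] at h
  exact mul_left_cancel (a := R.x 0) (by rw [← h, mul_one])

theorem NX_mul_x (b : F) : R.NX k * el k (R.x b) = R.NX k := by
  unfold NX
  rw [Finset.sum_mul]
  refine Fintype.sum_equiv (Equiv.addRight b) _ _ fun a => ?_
  rw [← el_mul, ← R.x_add]
  rfl

theorem NX_mul_T {t : G} (ht : t ∈ D.T) : R.NX k * el k t = el k t * R.NX k := by
  unfold NX
  rw [Finset.sum_mul, Finset.mul_sum]
  obtain ⟨σ, hσ⟩ := R.T_x t ht
  symm
  refine Fintype.sum_equiv σ _ _ fun a => ?_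
  rw [← el_mul, ← el_mul, ← hσ a]
  congr 1
  group

theorem NX_mul_Ufix [CharP F p] [CharP k p] {v : MonoidAlgebra k G} (hv : D.Ufix v) : R.NX k * v = 0 := by
  unfold NX
  rw [Finset.sum_mul, Finset.sum_congr rfl (fun a _ => hv _ (R.x_mem a)), Finset.sum_const, Finset.card_univ,
    ← Nat.cast_smul_eq_nsmul k]
  have h : (Fintype.card F : k) = 0 := by
    rw [CharP.cast_eq_zero_iff k p, ← CharP.cast_eq_zero_iff F p]
    exact FiniteField.cast_card_eq_zero F
  rw [h, zero_smul]

theorem Ufix_w {v : MonoidAlgebra k G} (hv : D.Ufix v) : D.Ufix (R.NX k * (el k R.m * v)) := by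
  intro u hu
  obtain ⟨b, hb⟩ := R.inv u hu
  unfold NX
  rw [Finset.sum_mul, Finset.mul_sum]
  refine Fintype.sum_equiv (Equiv.addRight b) _ _ fun a => ?_
  have h1 := hv _ (hb a)
  conv_rhs => rw [← h1]
  simp only [← mul_assoc, ← el_mul]
  congr 2
  simp only [Equiv.coe_addRight]
  group

theorem key [DecidableEq F] [CharP F p] [CharP k p] {v : MonoidAlgebra k G} (hv : D.Ufix v)
    (hs : ∑ u : Fˣ, el k (R.h u) * v = 0) :
    R.NX k * (el k R.m * (R.NX k * (el k R.m * v))) = 0 := by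
  have h1 : R.NX k * (el k R.m * (R.NX k * (el k R.m * v))) =
      ∑ a : F, R.NX k * (el k (R.m * R.x a * R.m) * v) := by
    conv_lhs => rw [show R.NX k * (el k R.m * v) = ∑ a : F, el k (R.x a) * (el k R.m * v) by
      unfold NX; rw [Finset.sum_mul]]
    rw [Finset.mul_sum, Finset.mul_sum]
    refine Finset.sum_congr rfl fun a _ => ?_
    simp only [el_mul, mul_assoc]
  rw [h1, sum_units]
  have h2 : R.NX k * (el k (R.m * R.x 0 * R.m) * v) = 0 := by
    rw [R.x_zero, mul_one, ← mul_assoc, R.NX_mul_T R.mm, mul_assoc, R.NX_mul_Ufix hv, mul_zero]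
  have h3 : ∀ a : Fˣ, R.NX k * (el k (R.m * R.x a * R.m) * v) = R.NX k * (el k R.m * (el k (R.h (-a)) * v)) := by
    intro a
    rw [R.rel, el_mul, el_mul, el_mul, mul_assoc, mul_assoc, mul_assoc, hv _ (R.x_mem _), ← mul_assoc,
      R.NX_mul_x]
  rw [h2, zero_add, Finset.sum_congr rfl fun a _ => h3 a, ← Finset.mul_sum, ← Finset.mul_sum]
  have h4 : ∑ a : Fˣ, el k (R.h (-a)) * v = ∑ u : Fˣ, el k (R.h u) * v :=
    Fintype.sum_equiv (Equiv.neg Fˣ) _ _ fun a => rfl
  rw [h4, hs, mul_zero, mul_zero]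

theorem m_T {t : G} (ht : t ∈ D.T) : R.m * t * R.m⁻¹ ∈ D.T := by
  have h1 := R.T_m _ (mul_mem (mul_mem R.mm ht) (inv_mem R.mm))
  have h2 : R.m⁻¹ * (R.m * R.m * t * (R.m * R.m)⁻¹) * R.m = R.m * t * R.m⁻¹ := by group
  rwa [h2] at h1

theorem n0_zero {w : MonoidAlgebra k G} (hw : R.NX k * (el k R.m * w) = 0) {t : G} (ht : t ∈ D.T) :
    D.NU k * (el k D.n0 * (el k t * w)) = 0 := by
  classical
  have h0 : R.NX k * (el k R.m * (el k t * w)) = 0 := by
    have h1 : el k R.m * (el k t * w) = el k (R.m * t * R.m⁻¹) * (el k R.m * w) := by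
      simp only [← mul_assoc, ← el_mul]
      congr 2
      group
    rw [h1, ← mul_assoc, R.NX_mul_T (R.m_T ht), mul_assoc, hw, mul_zero]
  set n' := D.n0 * R.m⁻¹ with hn'
  -- the subgroup `n' X n'⁻¹`
  let φ : Multiplicative F →* G :=
    { toFun := fun a => n' * R.x a.toAdd * n'⁻¹
      map_one' := by simp [R.x_zero]
      map_mul' := fun a b => by
        rw [toAdd_mul, R.x_add]; group }
  have hφ : ∀ a : Multiplicative F, φ a = n' * R.x a.toAdd * n'⁻¹ := fun _ => rfl
  have hinj : Function.Injective φ := by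
    intro a b hab
    rw [hφ, hφ] at hab
    exact Multiplicative.toAdd.injective (R.x_inj (mul_left_cancel (mul_right_cancel hab)))
  have : Fintype φ.range := Fintype.ofFinite _
  refine D.NU_mul_eq_zero φ.range ?_ _ ?_
  · rintro _ ⟨a, rfl⟩
    exact R.conj _
  · have h2 : ∑ c : φ.range, el k (c : G) * (el k D.n0 * (el k t * w)) =
        ∑ a : Multiplicative F, el k (φ a) * (el k D.n0 * (el k t * w)) := by
      symm
      refine Fintype.sum_equiv (MonoidHom.ofInjective hinj).toEquiv _ _ fun a => rfl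
    rw [h2]
    have h3 : ∀ a : Multiplicative F, el k (φ a) * (el k D.n0 * (el k t * w)) =
        el k n' * (el k (R.x a.toAdd) * (el k R.m * (el k t * w))) := by
      intro a
      rw [hφ]
      simp only [← mul_assoc, ← el_mul]
      congr 3
      rw [hn']
      group
    rw [Finset.sum_congr rfl fun a _ => h3 a, ← Finset.mul_sum]
    have h4 : ∑ a : Multiplicative F, el k (R.x a.toAdd) * (el k R.m * (el k t * w)) =
        R.NX k * (el k R.m * (el k t * w)) := by
      unfold NX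
      rw [Finset.sum_mul]
      exact Fintype.sum_equiv Multiplicative.toAdd _ _ fun a => rfl
    rw [h4, h0, mul_zero]

theorem eq_zero_of_sum [DecidableEq F] [Fact p.Prime] [CharP F p] [CharP k p] {e : MonoidAlgebra k G} {c : k} (he : DZ e c)
    {v : MonoidAlgebra k G} (hv : D.Ufix v) (hve : v * e = v) (hs : ∑ u : Fˣ, el k (R.h u) * v = 0) : v = 0 := by
  have h1 := R.key hv hs
  have h2 : R.NX k * (el k R.m * v) = 0 := by
    refine D.eq_zero_of_NU he (R.Ufix_w hv) ?_ fun t ht => R.n0_zero h1 ht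
    rw [mul_assoc, mul_assoc, hve]
  exact D.eq_zero_of_NU he hv hve fun t ht => R.n0_zero h2 ht

theorem h_fix [Fact p.Prime] [CharP F p] [CharP k p] {e : MonoidAlgebra k G} {c : k} (he : DZ e c)
    {v : MonoidAlgebra k G} (hv : D.Ufix v) (hve : v * e = v) (a : Fˣ) : el k (R.h a) * v = v := by
  classical
  rw [← sub_eq_zero]
  refine R.eq_zero_of_sum he ?_ ?_ ?_
  · intro u hu
    rw [mul_sub, D.Ufix_T hv (R.h_mem a) u hu, hv u hu]
  · rw [sub_mul, mul_assoc, hve]
  · simp only [mul_sub]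
    rw [Finset.sum_sub_distrib, sub_eq_zero]
    refine Fintype.sum_equiv (Equiv.mulRight a) _ _ fun u => ?_
    rw [← mul_assoc, ← el_mul, ← R.h_mul]
    rfl

end Root

namespace BruData

variable {p : ℕ} (D : BruData G p)

theorem exists_Ufix [Fact p.Prime] [CharP k p] {e : MonoidAlgebra k G} {c : k} (he : DZ e c) :
    ∃ v : MonoidAlgebra k G, v ≠ 0 ∧ v * e = v ∧ D.Ufix v := by
  let W : Submodule k (MonoidAlgebra k G) :=
    { carrier := {a | a * e = a}
      add_mem' := fun {a b} ha hb => by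
        show (a + b) * e = a + b
        rw [add_mul, ha, hb]
      zero_mem' := zero_mul _
      smul_mem' := fun r a ha => by
        show (r • a) * e = r • a
        rw [smul_mul_assoc, ha] }
  let ρ : Representation k G (MonoidAlgebra k G) :=
    { toFun := fun g => LinearMap.mulLeft k (el k g)
      map_one' := LinearMap.ext fun a => by
        show el k 1 * a = a
        rw [el_one, one_mul]
      map_mul' := fun g h => LinearMap.ext fun a => by
        show el k (g * h) * a = el k g * (el k h * a)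
        rw [el_mul, mul_assoc] }
  obtain ⟨v, hvW, hv0, hv⟩ := Lib.PGroupFixedVector.exists_mem_ne_zero_fixed_rep D.pU (ρ.comp D.U.subtype) W
    (by
      intro u a ha
      show (el k (u : G) * a) * e = el k (u : G) * a
      rw [mul_assoc, show a * e = a from ha])
    (by
      intro h
      have : e ∈ W := he.idem
      rw [h, Submodule.mem_bot] at this
      exact he.ne this)
  exact ⟨v, hv0, hvW, fun u hu => hv ⟨u, hu⟩⟩

/-- **At most one block of defect zero.** -/
theorem false_of_orthogonal [Fact p.Prime] [CharP k p] {F : Type*} [Field F] [Fintype F] [CharP F p]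
    {ι : Type*} (R : ι → Root D F) (hT : D.T ≤ Subgroup.closure {t | ∃ i a, t = (R i).h a})
    {e e' : MonoidAlgebra k G} {c c' : k} (he : DZ e c) (he' : DZ e' c') (hee : e * e' = 0) : False := by
  obtain ⟨v, hv0, hve, hv⟩ := D.exists_Ufix he
  obtain ⟨v', hv0', hve', hv'⟩ := D.exists_Ufix he'
  have hfix : ∀ (f : MonoidAlgebra k G) (d : k), DZ f d → ∀ w, D.Ufix w → w * f = w → ∀ t ∈ D.T,
      el k t * w = w := by
    intro f d hf w hw hwf t ht
    refine Subgroup.closure_induction (p := fun t _ => el k t * w = w) ?_ ?_ ?_ ?_ (hT ht)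
    · rintro _ ⟨i, a, rfl⟩
      exact (R i).h_fix hf hw hwf a
    · rw [el_one, one_mul]
    · intro a b _ _ ha hb
      rw [el_mul, mul_assoc, hb, ha]
    · intro a _ ha
      conv_lhs => rw [← ha]
      rw [el_inv_mul]
  have hTv := hfix e c he v hv hve
  have hTv' := hfix e' c' he' v' hv' hve'
  set w := v + v' with hw
  have hwU : D.Ufix w := fun u hu => by rw [hw, mul_add, hv u hu, hv' u hu]
  have hwT : ∀ t ∈ D.T, el k t * w = w := fun t ht => by rw [hw, mul_add, hTv t ht, hTv' t ht]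
  -- `NU g w` is a multiple of `NU n0 w`
  have hspan : ∀ g : G, ∃ r : k, D.NU k * (el k g * w) = r • (D.NU k * (el k D.n0 * w)) := by
    intro g
    rcases D.cell g with ⟨x, hx, hx1, hxg⟩ | ⟨u, hu, t, ht, u', hu', rfl⟩
    · refine ⟨0, ?_⟩
      rw [zero_smul]
      refine D.NU_mul_of_fixed hx hx1 _ ?_
      have h1 := hwU _ hxg
      conv_rhs => rw [← h1]
      rw [← mul_assoc, ← mul_assoc, ← el_mul, ← el_mul]
      congr 2
      group
    · refine ⟨1, ?_⟩
      rw [one_smul, el_mul, el_mul, el_mul, mul_assoc, mul_assoc, mul_assoc, hwU u' hu', hwT t ht, ← mul_assoc,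
        D.NU_mul_el hu]
  have hspan' : ∀ a : MonoidAlgebra k G, ∃ r : k, D.NU k * (a * w) = r • (D.NU k * (el k D.n0 * w)) := by
    intro a
    choose r hr using hspan
    refine ⟨∑ g, a.coeff g * r g, ?_⟩
    conv_lhs => rw [eq_sum_coeff a, Finset.sum_mul, Finset.mul_sum]
    rw [Finset.sum_smul]
    refine Finset.sum_congr rfl fun g _ => ?_
    rw [smul_mul_assoc, mul_smul_comm, hr, smul_smul]
  have hev' : e * v' = 0 := by
    rw [← hve', ← mul_assoc, he.cent, mul_assoc, hee, mul_zero]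
  have he'v : e' * v = 0 := by
    rw [← hve, ← mul_assoc, he'.cent, mul_assoc, he'.cent, hee, mul_zero]
  have hev : e * v = v := by rw [he.cent, hve]
  have he'v' : e' * v' = v' := by rw [he'.cent, hve']
  -- `NU n0 v` and `NU n0 v'` are nonzero
  have hne : ∀ (f : MonoidAlgebra k G) (d : k), DZ f d → ∀ w, D.Ufix w → w * f = w → w ≠ 0 →
      (∀ t ∈ D.T, el k t * w = w) → D.NU k * (el k D.n0 * w) ≠ 0 := by
    intro f d hf w hw hwf hw0 hwT h
    apply hw0
    refine D.eq_zero_of_NU hf hw hwf fun t ht => ?_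
    rw [hwT t ht, h]
  have h1 := hne e c he v hv hve hv0 hTv
  have h2 := hne e' c' he' v' hv' hve' hv0' hTv'
  obtain ⟨r, hr⟩ := hspan' (el k D.n0 * e)
  have h3 : D.NU k * (el k D.n0 * e * w) = D.NU k * (el k D.n0 * v) := by
    rw [mul_assoc, hw, mul_add, hev, hev', add_zero]
  rw [h3, hw, mul_add, mul_add] at hr
  -- multiply by `e'`
  have h4 := congrArg (fun z => z * e') hr
  simp only [smul_mul_assoc, add_mul, mul_assoc] at h4
  have h5 : v * e' = 0 := by rw [← he'.cent, he'v]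
  rw [h5, hve', mul_zero, mul_zero, zero_add] at h4
  have hr0 : r = 0 := by
    rcases smul_eq_zero.1 h4.symm with h | h
    · exact h
    · exact absurd h h2
  rw [hr0, zero_smul] at hr
  exact h1 hr

end BruData

end Cfsg.Agent.H615.DefZeroAlg
end

-- part: H615/DefZeroChar
section
/-!
# The idempotent of a block of defect zero modulo `M`

`χ` irreducible with `N = |G| / χ(1)` prime to `p`, `φ : AlgInt →+* k` a homomorphism to a field of
characteristic `p` with kernel `M`. `idem φ χ = N⁻¹ ∑ φ(χ(g⁻¹)) g` satisfies `DZ`; different characters give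
orthogonal idempotents.
-/

set_option autoImplicit false
set_option linter.unusedSectionVars false

namespace Cfsg.Agent.H615.DefZeroChar

open Cfsg DefZeroAlg
open scoped ComplexConjugate

universe u

variable {G : Type u} [Group G] [Fintype G]

/-- The value of an irreducible character, as an algebraic integer. -/
def val (χ : IrrCharacter G) (g : G) : AlgInt := ⟨(χ : G → ℂ) g, Blocks.Central.isIntegral_irr χ.2 g⟩

theorem coe_val (χ : IrrCharacter G) (g : G) : ((val χ g : AlgInt) : ℂ) = (χ : G → ℂ) g := rfl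

/-- `|G| / χ(1)`. -/
noncomputable def NN (χ : IrrCharacter G) : ℕ := Nat.card G / charDegree (χ : G → ℂ)

theorem one_mul_NN (χ : IrrCharacter G) : (χ : G → ℂ) 1 * (NN χ : ℂ) = (Nat.card G : ℂ) := by
  obtain ⟨h1, h2, h3⟩ := S0914.degree_spec χ
  rw [h1, NN]
  rw [← Nat.cast_mul, Nat.mul_div_cancel' h3]

theorem one_ne (χ : IrrCharacter G) : (χ : G → ℂ) 1 ≠ 0 := Blocks.Basic.irr_one_ne_zero χ.2

theorem card_div (χ : IrrCharacter G) : (Nat.card G : ℂ) / (χ : G → ℂ) 1 = (NN χ : ℂ) := by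
  rw [← one_mul_NN χ, mul_div_cancel_left₀ _ (one_ne χ)]

theorem sum_val_mul (χ : IrrCharacter G) (y : G) :
    ∑ x, val χ x * val χ (x⁻¹ * y) = (NN χ : AlgInt) * val χ y := by
  classical
  apply Subtype.ext
  push_cast
  simp only [coe_val]
  have h := Blocks.Orthogonality.sum_irr_mul_irr χ χ y
  rw [if_pos rfl] at h
  rw [h, ← card_div]
  ring

theorem sum_val_mul_ne (χ χ' : IrrCharacter G) (hne : χ ≠ χ') (y : G) :
    ∑ x, val χ x * val χ' (x⁻¹ * y) = 0 := by
  classical
  apply Subtype.ext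
  push_cast
  simp only [coe_val]
  have h := Blocks.Orthogonality.sum_irr_mul_irr χ χ' y
  rw [if_neg hne] at h
  exact h

theorem sum_conj (χ : IrrCharacter G) (x y : G) :
    ∑ a, val χ (y * (a * x * a⁻¹)) = (NN χ : AlgInt) * (val χ x * val χ y) := by
  apply Subtype.ext
  push_cast
  simp only [coe_val]
  obtain ⟨⟨χ, n, ρ, hρ, rfl⟩, hχ⟩ : ∃ χ' : IrrCharacter G, χ' = χ := ⟨χ, rfl⟩
  subst hχ
  have h := Characters.Central.sum_conj_smul (ρ := ρ) hρ x
  have h2 := congrArg (fun T => LinearMap.trace ℂ _ (ρ y * T)) h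
  simp only [Finset.mul_sum, map_sum, mul_smul_comm, map_smul, mul_one, ← map_mul] at h2
  show ∑ a, ρ.character (y * (a * x * a⁻¹)) = _ * (ρ.character x * ρ.character y)
  have h3 : ∀ g, ρ.character g = LinearMap.trace ℂ _ (ρ g) := fun g => rfl
  simp only [h3 (y * _)]
  rw [h2, ← card_div]
  simp only [smul_eq_mul, ← h3]
  ring

theorem val_mul_comm (χ : IrrCharacter G) (x y : G) : val χ (x * y) = val χ (y * x) := by
  apply Subtype.ext
  exact Blocks.Basic.irr_mul_comm χ.2 x y

variable {k : Type*} [Field k] (φ : AlgInt →+* k)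

/-- The block idempotent. -/
noncomputable def idem (χ : IrrCharacter G) : MonoidAlgebra k G :=
  Blocks.Central.ofFun fun g => (NN χ : k)⁻¹ * φ (val χ g⁻¹)

theorem coeff_idem (χ : IrrCharacter G) (g : G) :
    (idem φ χ).coeff g = (NN χ : k)⁻¹ * φ (val χ g⁻¹) := rfl

variable {p : ℕ} [Fact p.Prime] {M : Ideal AlgInt}

theorem idem_DZ [CharP k p] (hM : IsPModular p M) (hφ : ∀ a, φ a = 0 → a ∈ M) (χ : IrrCharacter G)
    (hχ : ¬ p ∣ NN χ) : DZ (idem φ χ) ((NN χ : k) ^ 2) := by
  classical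
  have hN : (NN χ : k) ≠ 0 := by
    rw [Ne, CharP.cast_eq_zero_iff k p]
    exact hχ
  refine ⟨?_, ?_, ?_, pow_ne_zero _ hN, ?_⟩
  · -- nonzero
    have hB : blockOf M (χ : G → ℂ) = {χ} := (S0914.result p M hM χ).1 hχ
    obtain ⟨g, -, hg, -⟩ := S0906.result p M hM {χ} ⟨χ, hB.symm⟩
    intro h0
    apply hg
    have h1 : (idem φ χ).coeff g = 0 := by rw [h0]; rfl
    rw [coeff_idem] at h1
    rcases mul_eq_zero.1 h1 with h2 | h2
    · exact absurd h2 (inv_ne_zero hN)
    have h3 := hφ _ h2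
    have h4 : blockCoeff {χ} g = (val χ g⁻¹ : ℂ) / ((NN χ : AlgInt) : ℂ) := by
      rw [Blocks.Basic.blockCoeff_def, finsum_mem_singleton, coe_val,
        Blocks.Orthogonality.irr_apply_inv χ.2]
      push_cast
      rw [← one_mul_NN χ]
      have := one_ne χ
      have hN' : (NN χ : ℂ) ≠ 0 := by
        intro h
        apply hχ
        have : NN χ = 0 := by exact_mod_cast h
        rw [this]; exact dvd_zero _
      field_simp
    rw [h4]
    exact ⟨_, _, h3, Blocks.Residue.natCast_notMem hM hχ, rfl⟩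
  · -- idempotent
    apply Blocks.Central.ext_coeff
    intro g
    rw [Blocks.Central.coeff_mul_eq_sum]
    simp only [coeff_idem]
    have h := congrArg φ (sum_val_mul χ g⁻¹)
    rw [map_sum, map_mul, map_natCast] at h
    have h2 : ∑ x : G, (NN χ : k)⁻¹ * φ (val χ x⁻¹) * ((NN χ : k)⁻¹ * φ (val χ (x⁻¹ * g)⁻¹)) =
        (NN χ : k)⁻¹ * (NN χ : k)⁻¹ * ∑ x : G, φ (val χ x * val χ (x⁻¹ * g⁻¹)) := by
      rw [Finset.mul_sum]
      refine Fintype.sum_equiv (Equiv.inv G) _ _ fun x => ?_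
      simp only [Equiv.inv_apply, inv_inv, mul_inv_rev, map_mul]
      rw [val_mul_comm χ x g⁻¹]
      ring
    rw [h2, h]
    field_simp
  · -- central
    intro a
    have hc : idem φ χ ∈ Subalgebra.center k (MonoidAlgebra k G) := by
      rw [Blocks.Central.mem_center_iff]
      intro g h
      rw [coeff_idem, coeff_idem]
      congr 2
      rw [show (h * g * h⁻¹)⁻¹ = h * (g⁻¹ * h⁻¹) by group, val_mul_comm, mul_assoc, inv_mul_cancel, mul_one]
    exact ((Subalgebra.mem_center_iff.1 hc) a).symm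
  · -- trace identity
    intro g
    apply Blocks.Central.ext_coeff
    intro x
    rw [MonoidAlgebra.coeff_sum]
    simp only [Finsupp.finsetSum_apply, MonoidAlgebra.coeff_smul, Finsupp.smul_apply, smul_eq_mul]
    have h1 : ∀ h : G, (el k h * (el k g * idem φ χ) * el k h⁻¹).coeff x =
        (NN χ : k)⁻¹ * φ (val χ (x⁻¹ * (h * g * h⁻¹))) := by
      intro h
      have h2 : el k h * (el k g * idem φ χ) * el k h⁻¹ = el k (h * g) * (idem φ χ * el k h⁻¹) := by
        rw [el_mul]; simp only [mul_assoc]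
      rw [h2, Blocks.Central.coeff_mul_eq_sum, Finset.sum_eq_single (h * g)]
      · rw [coeff_el, if_pos rfl, one_mul, coeff_mul_el, coeff_idem]
        congr 2
        rw [show ((h * g)⁻¹ * x * h⁻¹⁻¹)⁻¹ = h⁻¹ * (x⁻¹ * (h * g)) by group, val_mul_comm]
        congr 1
        group
      · intro y _ hy
        rw [coeff_el, if_neg (Ne.symm hy), zero_mul]
      · intro h; exact absurd (Finset.mem_univ _) h
    rw [Finset.sum_congr rfl fun h _ => h1 h, ← Finset.mul_sum, ← map_sum, sum_conj, coeff_idem, coeff_idem,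
      inv_inv, map_mul, map_mul, map_natCast]
    field_simp

theorem idem_mul_idem_ne (χ χ' : IrrCharacter G) (hne : χ ≠ χ') : idem φ χ * idem φ χ' = 0 := by
  classical
  apply Blocks.Central.ext_coeff
  intro g
  rw [Blocks.Central.coeff_mul_eq_sum]
  simp only [coeff_idem]
  have h := congrArg φ (sum_val_mul_ne χ χ' hne g⁻¹)
  rw [map_sum, map_zero] at h
  have h2 : ∑ x : G, (NN χ : k)⁻¹ * φ (val χ x⁻¹) * ((NN χ' : k)⁻¹ * φ (val χ' (x⁻¹ * g)⁻¹)) =
      (NN χ : k)⁻¹ * (NN χ' : k)⁻¹ * ∑ x : G, φ (val χ x * val χ' (x⁻¹ * g⁻¹)) := by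
    rw [Finset.mul_sum]
    refine Fintype.sum_equiv (Equiv.inv G) _ _ fun x => ?_
    simp only [Equiv.inv_apply, inv_inv, mul_inv_rev, map_mul]
    rw [val_mul_comm χ' x g⁻¹]
    ring
  rw [h2, h, mul_zero]
  rfl

/-- **At most one irreducible character of defect zero** in a group with `BruData` whose torus is generated by
the images of the `SL₂`-tori. -/
theorem defect_zero_unique (hM : IsPModular p M) (D : BruData G p) {F : Type*} [Field F] [Fintype F] [CharP F p]
    {ι : Type*} (R : ι → Root D F) (hT : D.T ≤ Subgroup.closure {t | ∃ i a, t = (R i).h a})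
    (χ χ' : IrrCharacter G) (hχ : ¬ p ∣ Nat.card G / charDegree (χ : G → ℂ))
    (hχ' : ¬ p ∣ Nat.card G / charDegree (χ' : G → ℂ)) : χ = χ' := by
  have : M.IsMaximal := hM.2.1
  let _ : Field (AlgInt ⧸ M) := Ideal.Quotient.field M
  have : CharP (AlgInt ⧸ M) p := Blocks.Residue.charP_residue hM
  by_contra hne
  have h0 : ∀ a, Ideal.Quotient.mk M a = 0 → a ∈ M := fun a ha => Ideal.Quotient.eq_zero_iff_mem.1 ha
  exact D.false_of_orthogonal R hT (idem_DZ (Ideal.Quotient.mk M) hM h0 χ hχ)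
    (idem_DZ (Ideal.Quotient.mk M) hM h0 χ' hχ') (idem_mul_idem_ne _ χ χ' hne)

end Cfsg.Agent.H615.DefZeroChar
end
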