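import Cfsg.Agent.H614.Rank
set_option linter.all false

/-!
# Multisets of raising operators

The values of an alternating function with raising relations at the tuples of weight `w` are
combinations of the values at the core of the products of raising operators over the multisets of
pairs (runner in `1, …, p - 1`; positive part) of total size `w` (`span_mult`). Consequences:

* `rank_two` : for `p = 2` the rank is at most the number of partitions of `w`;
* `rank_three` : for `p = 3`, `w = 2` the rank is at most `5`;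
* `card_partition_le_fib` : the number of partitions of `w` is at most `fib (w + 1)`.
-/

set_option autoImplicit false
set_option linter.unusedSectionVars false

namespace Cfsg.Agent.H615.AltMult

open Finset Cfsg.Agent.H614

variable {m : ℕ} {W : Type*} [AddCommGroup W] [Module ℂ W]

theorem Psi_comm (Φ : (Fin m → ℕ) → W) (p i r j s : ℕ) :
    Psi (Psi Φ p i r) p j s = Psi (Psi Φ p j s) p i r := by
  have key : ∀ (i r j s : ℕ) (γ : Fin m → ℕ), Psi (Psi Φ p i r) p j s γ =
      ∑ k, ∑ l, if γ k % p = j ∧ γ l % p = i then Φ (up (up γ k (p * s)) l (p * r)) else 0 := by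
    intro i r j s γ
    unfold Psi
    refine Finset.sum_congr rfl fun k _ => ?_
    by_cases hk : γ k % p = j
    · rw [if_pos hk]
      refine Finset.sum_congr rfl fun l _ => ?_
      rw [up_mod (dvd_mul_right p s) γ k l]
      by_cases hl : γ l % p = i
      · rw [if_pos hl, if_pos ⟨hk, hl⟩]
      · rw [if_neg hl, if_neg (fun h => hl h.2)]
    · rw [if_neg hk]
      exact (Finset.sum_eq_zero fun l _ => if_neg (fun h => hk h.1)).symm
  funext γ
  rw [key, key, Finset.sum_comm]
  refine Finset.sum_congr rfl fun l _ => Finset.sum_congr rfl fun k _ => ?_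
  rw [up_up_comm]
  exact if_congr (and_comm) rfl rfl

/-- The step of the product of raising operators. -/
def stp (p : ℕ) (x : ℕ × ℕ) (Ψ : (Fin m → ℕ) → W) : (Fin m → ℕ) → W := Psi Ψ p x.1 x.2

instance stp_leftComm (p : ℕ) : LeftCommutative (stp (m := m) (W := W) p) :=
  ⟨fun _ _ _ => Psi_comm _ _ _ _ _ _⟩

/-- The product of the raising operators of a multiset. -/
def PM (p : ℕ) (s : Multiset (ℕ × ℕ)) (Φ : (Fin m → ℕ) → W) : (Fin m → ℕ) → W :=
  s.foldr (stp p) Φ

theorem PM_zero (p : ℕ) (Φ : (Fin m → ℕ) → W) : PM p 0 Φ = Φ := rfl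

theorem PM_cons (p : ℕ) (x : ℕ × ℕ) (s : Multiset (ℕ × ℕ)) (Φ : (Fin m → ℕ) → W) :
    PM p (x ::ₘ s) Φ = Psi (PM p s Φ) p x.1 x.2 := by
  unfold PM
  rw [Multiset.foldr_cons]
  rfl

theorem PM_Psi (p i r : ℕ) (s : Multiset (ℕ × ℕ)) (Φ : (Fin m → ℕ) → W) :
    PM p s (Psi Φ p i r) = PM p ((i, r) ::ₘ s) Φ := by
  induction s using Multiset.induction_on with
  | empty => rw [PM_zero, PM_cons, PM_zero]
  | cons x s ih => rw [PM_cons, ih, Multiset.cons_swap, PM_cons p x]

/-- The generators. -/
def gens (p w : ℕ) (Φ : (Fin m → ℕ) → W) (c₀ : Fin m → ℕ) : Set W :=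
  {f | ∃ s : Multiset (ℕ × ℕ), (∀ x ∈ s, 1 ≤ x.1 ∧ x.1 < p ∧ 1 ≤ x.2) ∧
    (s.map Prod.snd).sum = w ∧ f = PM p s Φ c₀}

theorem gens_Psi {p w i r : ℕ} (h1 : 1 ≤ i) (h2 : i < p) (h3 : 1 ≤ r) (hr : r ≤ w)
    (Φ : (Fin m → ℕ) → W) (c₀ : Fin m → ℕ) :
    gens p (w - r) (Psi Φ p i r) c₀ ⊆ gens p w Φ c₀ := by
  rintro _ ⟨s, hs, hsum, rfl⟩
  refine ⟨(i, r) ::ₘ s, ?_, ?_, by rw [PM_Psi]⟩
  · intro x hx
    rcases Multiset.mem_cons.mp hx with rfl | hx
    · exact ⟨h1, h2, h3⟩
    · exact hs x hx
  · rw [Multiset.map_cons, Multiset.sum_cons, hsum]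
    simp only
    omega

theorem span_mult {p : ℕ} (hp : 0 < p) {c₀ : Fin m → ℕ} (hc : Function.Injective c₀)
    (hc0 : ∑ j, c₀ j / p = npairs p c₀) (w : ℕ) :
    ∀ Φ : (Fin m → ℕ) → W, Alt Φ → UpRel p Φ →
      ∀ γ : Fin m → ℕ, SameCol p c₀ γ → ∑ j, γ j / p = w + npairs p γ →
        Φ γ ∈ Submodule.span ℂ (gens p w Φ c₀) := by
  induction w using Nat.strong_induction_on with
  | _ w ih =>
  intro Φ hΦ hR γ hγ hw'
  by_cases hi : Function.Injective γ
  swap
  · rw [hΦ.eq_zero_of_not_injective two_torsion_module hi]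
    exact Submodule.zero_mem _
  rcases Nat.eq_zero_or_pos w with rfl | hw
  · obtain ⟨σ, rfl⟩ := exists_perm_of_weight_zero hp hc hi hc0 (by simpa using hw') hγ
    rw [hΦ, ← Int.cast_smul_eq_zsmul ℂ]
    exact Submodule.smul_mem _ _ (Submodule.subset_span ⟨0, by simp, by simp, rfl⟩)
  · have hmem : ∀ r, r < w → ∀ i, i < p → ∀ δ : Fin m → ℕ, SameCol p c₀ δ →
        ∑ j, δ j / p = (w - (r + 1)) + npairs p δ → Psi Φ p i (r + 1) δ ∈
        Submodule.span ℂ (gens p w Φ c₀) := by
      intro r hr i hi δ hδ hδ'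
      have hpos : ∀ i, 1 ≤ i → i < p → Psi Φ p i (r + 1) δ ∈
          Submodule.span ℂ (gens p w Φ c₀) := by
        intro i h1 hi
        exact Submodule.span_mono (gens_Psi h1 hi (by omega) hr Φ c₀)
          (ih (w - (r + 1)) (by omega) _ (Psi_alt hΦ p i (r + 1)) (Psi_upRel hR i (r + 1)) δ hδ hδ')
      rcases Nat.eq_zero_or_pos i with rfl | h1
      · have h2 := sum_Psi hp hR (Nat.succ_pos r) δ
        rw [Finset.range_eq_Ico, Finset.sum_eq_sum_Ico_succ_bot hp] at h2
        rw [Nat.succ_eq_add_one] at h2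
        rw [eq_neg_of_add_eq_zero_left h2]
        apply Submodule.neg_mem
        refine Submodule.sum_mem _ fun i hi => ?_
        have := Finset.mem_Ico.mp hi
        exact hpos i (by omega) this.2
      · exact hpos i h1 hi
    have hsum := energy_Psi hΦ γ hw'
    have h3 : (w : ℂ) • Φ γ ∈ Submodule.span ℂ (gens p w Φ c₀) := by
      rw [Nat.cast_smul_eq_nsmul, ← hsum]
      refine Submodule.sum_mem _ fun j _ => Submodule.sum_mem _ fun r hr => ?_
      have hr1 := mem_range.mp hr
      have hle : p * (r + 1) ≤ γ j :=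
        le_trans (Nat.mul_le_mul_left _ hr1) (Nat.mul_div_le _ _)
      by_cases hrw : r < w
      · apply hmem r hrw _ (Nat.mod_lt _ hp)
        · exact hγ.trans (sameCol_dn (dvd_mul_right p _) γ j hle).symm
        · rw [npairs_of_mod (dn_mod (dvd_mul_right p (r + 1)) γ j hle)]
          have := sum_div_dn hp γ j hle
          omega
      · rw [(Psi_alt hΦ p (γ j % p) (r + 1)).eq_zero_of_not_injective two_torsion_module]
        · exact Submodule.zero_mem _
        · exact not_injective_dn hp hw' j hle (by omega)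
    have h4 : ((w : ℂ)⁻¹ * (w : ℂ)) • Φ γ ∈ Submodule.span ℂ (gens p w Φ c₀) := by
      rw [mul_smul]; exact Submodule.smul_mem _ _ h3
    rwa [inv_mul_cancel₀ (by exact_mod_cast hw.ne'), one_smul] at h4

/-- For `p = 2` the rank is at most the number of partitions of the weight. -/
theorem rank_two [DecidableEq W] {c₀ : Fin m → ℕ} (hc : Function.Injective c₀)
    (hc0 : ∑ j, c₀ j / 2 = npairs 2 c₀) (w : ℕ) {Φ : (Fin m → ℕ) → W} (hΦ : Alt Φ)
    (hR : UpRel 2 Φ) : ∃ T : Finset W, T.card ≤ Fintype.card (Nat.Partition w) ∧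
      ∀ γ : Fin m → ℕ, SameCol 2 c₀ γ → ∑ j, γ j / 2 = w + npairs 2 γ →
        Φ γ ∈ Submodule.span ℂ (T : Set W) := by
  refine ⟨(univ : Finset (Nat.Partition w)).image
    (fun π => PM 2 (π.parts.map (fun r => (1, r))) Φ c₀), Finset.card_image_le, ?_⟩
  intro γ h1 h2
  refine Submodule.span_mono ?_ (span_mult two_pos hc hc0 w Φ hΦ hR γ h1 h2)
  rintro _ ⟨s, hs, hsum, rfl⟩
  rw [Finset.mem_coe, Finset.mem_image]
  refine ⟨⟨s.map Prod.snd, ?_, hsum⟩, mem_univ _, ?_⟩
  · intro i hi
    obtain ⟨x, hx, rfl⟩ := Multiset.mem_map.mp hi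
    exact (hs x hx).2.2
  · simp only
    rw [Multiset.map_map]
    congr 2
    conv_rhs => rw [← Multiset.map_id s]
    refine Multiset.map_congr rfl fun x hx => ?_
    have := hs x hx
    simp only [Function.comp_apply, id_eq]
    ext
    · simp only; omega
    · rfl

theorem eq_zero_of_sum_zero {s : Multiset (ℕ × ℕ)} (hs : ∀ x ∈ s, 1 ≤ x.2)
    (h : (s.map Prod.snd).sum = 0) : s = 0 := by
  by_contra hne
  obtain ⟨x, hx⟩ := Multiset.exists_mem_of_ne_zero hne
  have h1 := Multiset.le_sum_of_mem (Multiset.mem_map_of_mem Prod.snd hx)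
  have := hs x hx
  omega

/-- For `p = 3` and weight `2` the rank is at most `5`. -/
theorem rank_three [DecidableEq W] {c₀ : Fin m → ℕ} (hc : Function.Injective c₀)
    (hc0 : ∑ j, c₀ j / 3 = npairs 3 c₀) {Φ : (Fin m → ℕ) → W} (hΦ : Alt Φ)
    (hR : UpRel 3 Φ) : ∃ T : Finset W, T.card ≤ 5 ∧
      ∀ γ : Fin m → ℕ, SameCol 3 c₀ γ → ∑ j, γ j / 3 = 2 + npairs 3 γ →
        Φ γ ∈ Submodule.span ℂ (T : Set W) := by
  refine ⟨{PM 3 {(1, 2)} Φ c₀, PM 3 {(2, 2)} Φ c₀, PM 3 {(1, 1), (1, 1)} Φ c₀,
    PM 3 {(1, 1), (2, 1)} Φ c₀, PM 3 {(2, 1), (2, 1)} Φ c₀}, Finset.card_le_five, ?_⟩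
  intro γ h1 h2
  refine Submodule.span_mono ?_ (span_mult (by norm_num) hc hc0 2 Φ hΦ hR γ h1 h2)
  rintro _ ⟨s, hs, hsum, rfl⟩
  have hcases : s = {(1, 2)} ∨ s = {(2, 2)} ∨ s = {(1, 1), (1, 1)} ∨ s = {(1, 1), (2, 1)} ∨
      s = {(2, 1), (2, 1)} := by
    induction s using Multiset.induction_on with
    | empty => simp at hsum
    | cons x s _ =>
      rw [Multiset.map_cons, Multiset.sum_cons] at hsum
      have hx := hs x (Multiset.mem_cons_self _ _)
      have hs' : ∀ y ∈ s, 1 ≤ y.1 ∧ y.1 < 3 ∧ 1 ≤ y.2 := fun y hy =>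
        hs y (Multiset.mem_cons_of_mem hy)
      clear hs
      obtain ⟨i, r⟩ := x
      simp only at hx hsum
      induction s using Multiset.induction_on with
      | empty =>
        simp only [Multiset.map_zero, Multiset.sum_zero, add_zero] at hsum
        subst hsum
        have hi : i = 1 ∨ i = 2 := by omega
        rcases hi with rfl | rfl
        · left; rfl
        · right; left; rfl
      | cons y s _ =>
        rw [Multiset.map_cons, Multiset.sum_cons] at hsum
        have hy := hs' y (Multiset.mem_cons_self _ _)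
        obtain ⟨j, t⟩ := y
        simp only at hy hsum
        have hr : r = 1 := by omega
        have ht : t = 1 := by omega
        subst hr; subst ht
        have hs0 : s = 0 := eq_zero_of_sum_zero
          (fun y hy => (hs' y (Multiset.mem_cons_of_mem hy)).2.2) (by omega)
        subst hs0
        have hi : i = 1 ∨ i = 2 := by omega
        have hj : j = 1 ∨ j = 2 := by omega
        rcases hi with rfl | rfl <;> rcases hj with rfl | rfl
        · right; right; left; rfl
        · right; right; right; left; rfl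
        · right; right; right; left
          exact Multiset.cons_swap _ _ _
        · right; right; right; right; rfl
  rw [Finset.mem_coe]
  simp only [Finset.mem_insert, Finset.mem_singleton]
  rcases hcases with rfl | rfl | rfl | rfl | rfl
  · exact Or.inl rfl
  · exact Or.inr (Or.inl rfl)
  · exact Or.inr (Or.inr (Or.inl rfl))
  · exact Or.inr (Or.inr (Or.inr (Or.inl rfl)))
  · exact Or.inr (Or.inr (Or.inr (Or.inr rfl)))

/-! ### The number of partitions -/

theorem exists_part {w : ℕ} (π : Nat.Partition (w + 1)) : ∃ k, k ∈ π.parts := by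
  by_contra h
  push Not at h
  have h1 : π.parts = 0 := Multiset.eq_zero_of_forall_notMem h
  have h2 := π.parts_sum
  rw [h1] at h2
  simp at h2

theorem card_partition_step (w : ℕ) : Fintype.card (Nat.Partition (w + 2)) ≤
    Fintype.card (Nat.Partition (w + 1)) + Fintype.card (Nat.Partition w) := by
  classical
  rw [← Fintype.card_sum]
  have hA : ∀ π : Nat.Partition (w + 2), 1 ∈ π.parts →
      ∃ ν : Nat.Partition (w + 1), π.parts = 1 ::ₘ ν.parts := by
    intro π h
    refine ⟨⟨π.parts.erase 1, fun {i} hi => π.parts_pos (Multiset.mem_of_mem_erase hi), ?_⟩, ?_⟩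
    · have h1 := Multiset.cons_erase h
      have h2 := π.parts_sum
      rw [← h1, Multiset.sum_cons] at h2
      omega
    · exact (Multiset.cons_erase h).symm
  have hB : ∀ π : Nat.Partition (w + 2), 1 ∉ π.parts →
      ∃ ν : Nat.Partition w, π.parts = (ν.parts.count 1 + 2) ::ₘ ν.parts.filter (fun i => i ≠ 1) := by
    intro π h
    obtain ⟨k, hk⟩ := exists_part π
    have hk0 := π.parts_pos hk
    have hk1 : k ≠ 1 := fun h' => h (h' ▸ hk)
    have h1 := Multiset.cons_erase hk
    have h2 := π.parts_sum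
    rw [← h1, Multiset.sum_cons] at h2
    have hno : 1 ∉ π.parts.erase k := fun h' => h (Multiset.mem_of_mem_erase h')
    refine ⟨⟨π.parts.erase k + Multiset.replicate (k - 2) 1, ?_, ?_⟩, ?_⟩
    · intro i hi
      rcases Multiset.mem_add.mp hi with h' | h'
      · exact π.parts_pos (Multiset.mem_of_mem_erase h')
      · rw [Multiset.eq_of_mem_replicate h']; exact one_pos
    · rw [Multiset.sum_add, Multiset.sum_replicate, smul_eq_mul, mul_one]
      omega
    · simp only
      rw [Multiset.count_add, Multiset.count_replicate_self, Multiset.count_eq_zero.mpr hno,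
        Multiset.filter_add]
      have h3 : (π.parts.erase k).filter (fun i => i ≠ 1) = π.parts.erase k := by
        rw [Multiset.filter_eq_self]
        intro i hi h'
        exact hno (h' ▸ hi)
      have h4 : (Multiset.replicate (k - 2) 1).filter (fun i => i ≠ 1) = 0 := by
        rw [Multiset.filter_eq_nil]
        intro i hi h'
        exact h' (Multiset.eq_of_mem_replicate hi)
      rw [h3, h4, add_zero]
      have h5 : 0 + (k - 2) + 2 = k := by omega
      rw [h5, h1]
  choose! fA hfA using hA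
  choose! fB hfB using hB
  apply Fintype.card_le_of_injective
    (fun π => if 1 ∈ π.parts then Sum.inl (fA π) else Sum.inr (fB π))
  intro π π' h
  simp only at h
  by_cases h1 : 1 ∈ π.parts <;> by_cases h2 : 1 ∈ π'.parts
  · rw [if_pos h1, if_pos h2, Sum.inl.injEq] at h
    apply Nat.Partition.ext
    rw [hfA π h1, hfA π' h2, h]
  · rw [if_pos h1, if_neg h2] at h
    exact absurd h (by simp)
  · rw [if_neg h1, if_pos h2] at h
    exact absurd h (by simp)
  · rw [if_neg h1, if_neg h2, Sum.inr.injEq] at h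
    apply Nat.Partition.ext
    rw [hfB π h1, hfB π' h2, h]

theorem card_partition_le_fib (w : ℕ) : Fintype.card (Nat.Partition w) ≤ Nat.fib (w + 1) := by
  induction w using Nat.strong_induction_on with
  | _ w ih =>
    match w with
    | 0 => simp
    | 1 => simp
    | w + 2 =>
      have h1 := ih (w + 1) (by omega)
      have h2 := ih w (by omega)
      have h3 := card_partition_step w
      rw [Nat.fib_add_two (n := w + 1)]
      omega

end Cfsg.Agent.H615.AltMult
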